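import Cfsg.Agent.Lib.AltEightNine.Core.Facts
import Cfsg.Agent.Lib.Syl34.Functor

/-!
# A group containing the alternating group of degree eight with an involution centraliser inside it
-/

set_option autoImplicit false
set_option linter.unusedSectionVars false
set_option linter.style.haveILetI false

namespace Cfsg.Lib.AltEightNine

open Subgroup

universe u

/-- An embedded alternating group of degree eight containing the centraliser of one of its fixed
point free involutions, which is not conjugate to one of the other kind. -/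
structure Emb (G : Type u) [Group G] where
  /-- the embedding -/
  ψ : A8 →* G
  inj : Function.Injective ψ
  cent : centralizer ({ψ z8} : Set G) ≤ ψ.range
  fus : ¬ IsConj (ψ z8) (ψ w8)

namespace Emb

variable {G : Type u} [Group G] [Finite G] (F : Emb G)

/-- The embedded group. -/
abbrev K : Subgroup G := F.ψ.range

/-- The image of the second kind of involution. -/
abbrev W : G := F.ψ w8

/-- The image of its companion. -/
abbrev V : G := F.ψ v8

theorem mem_K (a : A8) : F.ψ a ∈ F.K := ⟨a, rfl⟩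

theorem map_conj' (a b : A8) : F.ψ (a * b * a⁻¹) = F.ψ a * F.ψ b * (F.ψ a)⁻¹ := by
  rw [map_mul, map_mul, map_inv]

theorem comm_of (a b : A8) (h : a * b = b * a) : F.ψ a * F.ψ b = F.ψ b * F.ψ a := by
  rw [← map_mul, h, map_mul]

theorem comm_iff (a b : A8) : F.ψ a * F.ψ b = F.ψ b * F.ψ a ↔ a * b = b * a :=
  ⟨fun h => F.inj (by rw [map_mul, map_mul, h]), F.comm_of a b⟩

/-- An element conjugating a fixed point free involution into the embedded group lies in it. -/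
theorem ctrl {a : A8} (ha : IsConj z8 a) {g : G} (hg : g * F.ψ a * g⁻¹ ∈ F.K) : g ∈ F.K := by
  obtain ⟨b, hb⟩ := hg
  obtain ⟨k, hk⟩ := isConj_iff.1 ha
  have hbz : IsConj (F.ψ z8) (F.ψ b) := isConj_iff.2 ⟨g * F.ψ k, by
    rw [hb, ← hk, map_conj']; group⟩
  have ha2 : a * a = 1 := by
    rw [← hk, show k * z8 * k⁻¹ * (k * z8 * k⁻¹) = k * (z8 * z8) * k⁻¹ by group, basics.2.1]; group
  have hb2 : b * b = 1 := F.inj (by
    rw [map_mul, hb, map_one, show g * F.ψ a * g⁻¹ * (g * F.ψ a * g⁻¹) = g * F.ψ (a * a) * g⁻¹ by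
      rw [map_mul]; group, ha2, map_one, mul_one, mul_inv_cancel])
  have hb1 : b ≠ 1 := by
    intro e
    rw [e, map_one] at hbz
    exact ne_facts.2.1 (F.inj (by rw [map_one]; exact isConj_one_right.1 hbz.symm))
  rcases involution_cases hb2 hb1 with h | ⟨h, -⟩
  · obtain ⟨h', hh⟩ := isConj_iff.1 h
    have hc : (F.ψ h')⁻¹ * g * F.ψ k ∈ F.K := F.cent (mem_centralizer_singleton_iff.2 (by
      have e : g * (F.ψ k * F.ψ z8 * (F.ψ k)⁻¹) * g⁻¹ = F.ψ h' * F.ψ z8 * (F.ψ h')⁻¹ := by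
        rw [← map_conj', ← map_conj', hk, hh, hb]
      calc (F.ψ h')⁻¹ * g * F.ψ k * F.ψ z8 =
          (F.ψ h')⁻¹ * (g * (F.ψ k * F.ψ z8 * (F.ψ k)⁻¹) * g⁻¹) * g * F.ψ k := by group
        _ = (F.ψ h')⁻¹ * (F.ψ h' * F.ψ z8 * (F.ψ h')⁻¹) * g * F.ψ k := by rw [e]
        _ = F.ψ z8 * ((F.ψ h')⁻¹ * g * F.ψ k) := by group))
    have := mul_mem (mul_mem (F.mem_K h') hc) (inv_mem (F.mem_K k))
    rwa [show F.ψ h' * ((F.ψ h')⁻¹ * g * F.ψ k) * (F.ψ k)⁻¹ = g by group] at this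
  · exact absurd (hbz.trans (MonoidHom.map_isConj F.ψ h).symm) F.fus

/-- The centraliser of the second kind of involution. -/
abbrev C : Subgroup G := centralizer ({F.W} : Set G)

theorem mem_C {g : G} : g ∈ F.C ↔ g * F.W = F.W * g := mem_centralizer_singleton_iff

theorem psi_mem_C {a : A8} : F.ψ a ∈ F.C ↔ a * w8 = w8 * a := F.mem_C.trans (F.comm_iff _ _)

theorem exists_ctrl_w {g : G} (hg : g * F.W * g⁻¹ ∈ F.K) : ∃ (h : A8) (c : G), c ∈ F.C ∧ g = F.ψ h * c := by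
  obtain ⟨b, hb⟩ := hg
  have hb2 : b * b = 1 := F.inj (by
    rw [map_mul, hb, map_one, show g * F.W * g⁻¹ * (g * F.W * g⁻¹) = g * F.ψ (w8 * w8) * g⁻¹ by
      rw [map_mul]; group, basics.1, map_one, mul_one, mul_inv_cancel])
  have hb1 : b ≠ 1 := by
    intro e
    rw [e, map_one, eq_comm, conj_eq_one_iff] at hb
    exact ne_facts.1 (F.inj (hb.trans (map_one _).symm))
  rcases involution_cases hb2 hb1 with h | ⟨h, -⟩
  · exact absurd ((MonoidHom.map_isConj F.ψ h).trans (isConj_iff.2 ⟨g, hb.symm⟩).symm) F.fus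
  · obtain ⟨h', hh⟩ := isConj_iff.1 h
    refine ⟨h', (F.ψ h')⁻¹ * g, F.mem_C.2 ?_, by group⟩
    have e : g * F.W * g⁻¹ = F.ψ h' * F.W * (F.ψ h')⁻¹ := by
      rw [← map_conj', hh, hb]
    calc (F.ψ h')⁻¹ * g * F.W = (F.ψ h')⁻¹ * (g * F.W * g⁻¹) * g := by group
      _ = (F.ψ h')⁻¹ * (F.ψ h' * F.W * (F.ψ h')⁻¹) * g := by rw [e]
      _ = F.W * ((F.ψ h')⁻¹ * g) := by group

/-- The elements centralising both members of the four-group. -/
abbrev C1 : Subgroup G := F.C ⊓ centralizer ({F.V} : Set G)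

theorem mem_C1 {g : G} : g ∈ F.C1 ↔ g * F.W = F.W * g ∧ g * F.V = F.V * g := by
  rw [Subgroup.mem_inf, mem_C, mem_centralizer_singleton_iff]

theorem psi_mem_C1 {a : A8} : F.ψ a ∈ F.C1 ↔ a * w8 = w8 * a ∧ a * v8 = v8 * a := by
  rw [mem_C1]; exact and_congr (F.comm_iff _ _) (F.comm_iff _ _)

/-- The standard Sylow subgroup of the centraliser of the four-group. -/
def A : Subgroup G := (centralizer ({w8, v8, z8} : Set A8)).map F.ψ

theorem mem_centralizer_three {a : A8} : a ∈ centralizer ({w8, v8, z8} : Set A8) ↔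
    a * w8 = w8 * a ∧ a * v8 = v8 * a ∧ a * z8 = z8 * a := by
  rw [mem_centralizer_iff]
  simp only [Set.mem_insert_iff, Set.mem_singleton_iff, forall_eq_or_imp, forall_eq]
  exact ⟨fun h => ⟨h.1.symm, h.2.1.symm, h.2.2.symm⟩, fun h => ⟨h.1.symm, h.2.1.symm, h.2.2.symm⟩⟩

theorem card_A : Nat.card F.A = 16 := by
  rw [A, Subgroup.card_map_of_injective F.inj, ← card_cent_wvz]
  exact Nat.card_congr (Equiv.subtypeEquivRight fun a => mem_centralizer_three)

theorem A_le : F.A ≤ F.C1 := by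
  rintro _ ⟨a, ha, rfl⟩
  exact F.psi_mem_C1.2 ⟨(mem_centralizer_three.1 ha).1, (mem_centralizer_three.1 ha).2.1⟩

theorem psi_z_mem_A : F.ψ z8 ∈ F.A :=
  mem_map_of_mem F.ψ (mem_centralizer_three.2 ⟨basics.2.2.2.1, basics.2.2.2.2.2.2.2.1.symm, rfl⟩)

theorem card_C1_inf : Nat.card ↥(F.C1 ⊓ F.K : Subgroup G) = 48 := by
  rw [← card_cent_wv]
  refine (Nat.card_eq_of_bijective
    (fun a : {a : A8 // a * w8 = w8 * a ∧ a * v8 = v8 * a} =>
      (⟨F.ψ a.1, F.psi_mem_C1.2 a.2, F.mem_K _⟩ : ↥(F.C1 ⊓ F.K : Subgroup G)))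
    ⟨fun a b e => Subtype.ext (F.inj (congrArg Subtype.val e)), ?_⟩).symm
  rintro ⟨_, hg, a, rfl⟩
  exact ⟨⟨a, F.psi_mem_C1.1 hg⟩, rfl⟩

/-- A 2-subgroup with the fixed point free involution is Sylow where the embedded group allows no
larger one. -/
theorem sylow_local {D R : Subgroup G} (hRD : R ≤ D) (hRK : R ≤ F.K) (hz : F.ψ z8 ∈ R) {m : ℕ}
    (hR : Nat.card R = 2 ^ m) (hd : Nat.card ↥(D ⊓ F.K : Subgroup G) ∣ 2 ^ m * 3)
    (P : Sylow 2 D) (hP : R.subgroupOf D ≤ P) : (P : Subgroup D) = R.subgroupOf D := by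
  haveI : Fact (Nat.Prime 2) := ⟨Nat.prime_two⟩
  refine le_antisymm ?_ hP
  by_contra hne
  haveI : Group.IsNilpotent ↥(P : Subgroup D) := P.isPGroup'.isNilpotent
  set R' := (R.subgroupOf D).subgroupOf (P : Subgroup D) with hR'
  have hR'top : R' < ⊤ := by
    refine lt_of_le_of_ne le_top fun e => hne fun x hx => ?_
    have : (⟨x, hx⟩ : ↥(P : Subgroup D)) ∈ R' := e ▸ mem_top _
    exact this
  have hN := Group.normalizerCondition_of_isNilpotent (G := ↥(P : Subgroup D)) R' hR'top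
  set N := normalizer (R' : Set ↥(P : Subgroup D)) with hNdef
  have hsub : ∀ n ∈ N, ((n : D) : G) ∈ D ⊓ F.K := by
    intro n hn
    have hz' : (⟨⟨F.ψ z8, hRD hz⟩, hP hz⟩ : ↥(P : Subgroup D)) ∈ R' := hz
    exact ⟨(n : D).2, F.ctrl (IsConj.refl z8) (hRK ((mem_normalizer_iff.1 hn _).1 hz'))⟩
  have hd' : Nat.card N ∣ 2 ^ m * 3 := by
    refine Nat.dvd_trans ?_ hd
    rw [← card_map_of_injective (K := N) (f := (D.subtype.comp (P : Subgroup D).subtype))
      ((Subgroup.subtype_injective _).comp (Subgroup.subtype_injective _))]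
    exact card_dvd_of_le (by rintro _ ⟨n, hn, rfl⟩; exact hsub n hn)
  obtain ⟨j, hj⟩ := IsPGroup.iff_card.1 (P.isPGroup'.to_subgroup N)
  have hR'card : Nat.card R' = 2 ^ m := by
    rw [hR', Nat.card_congr (subgroupOfEquivOfLe hP).toEquiv,
      Nat.card_congr (subgroupOfEquivOfLe hRD).toEquiv, hR]
  have hlt : 2 ^ m < Nat.card N := hR'card ▸ Set.Finite.card_lt_card (Set.toFinite _) hN
  rw [hj] at hd' hlt
  have hj2 : 2 ^ j ∣ 2 ^ m :=
    (Nat.Coprime.pow_left j (by norm_num : Nat.Coprime 2 3)).dvd_of_dvd_mul_right hd'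
  have := Nat.le_of_dvd (Nat.pow_pos (by norm_num)) hj2
  omega

/-- A 2-subgroup of `C1` is conjugate in it into `A`. -/
theorem exists_conj_A {R : Subgroup G} (hR : R ≤ F.C1) (hR2 : IsPGroup 2 R) :
    ∃ h ∈ F.C1, ∀ r ∈ R, h * r * h⁻¹ ∈ F.A := by
  haveI : Fact (Nat.Prime 2) := ⟨Nat.prime_two⟩
  have hA2 : IsPGroup 2 (F.A.subgroupOf F.C1) :=
    IsPGroup.of_card (n := 4) (by rw [Nat.card_congr (subgroupOfEquivOfLe F.A_le).toEquiv, F.card_A]; norm_num)
  obtain ⟨P, hP⟩ := hA2.exists_le_sylow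
  have heq := F.sylow_local F.A_le (map_le_range F.ψ _) F.psi_z_mem_A (m := 4)
    (by rw [F.card_A]; norm_num) (by rw [F.card_C1_inf]; norm_num) P hP
  obtain ⟨h, hh⟩ := Invol.exists_conj_mem_sylow P (hR2.of_equiv (subgroupOfEquivOfLe hR).symm)
  refine ⟨h, h.2, fun r hr => ?_⟩
  have := hh ⟨r, hR hr⟩ hr
  rw [heq] at this
  exact this

end Emb

end Cfsg.Lib.AltEightNine
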