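import Cfsg.Agent.Lib.AltEightNine.Core.Five

/-!
# Finite facts on the stabiliser of a point in the alternating group of degree eight
-/

set_option autoImplicit false
set_option maxRecDepth 100000
set_option synthInstance.maxSize 1000

namespace Cfsg.Lib.AltEightNine

open Equiv Equiv.Perm

/-- An even permutation carrying the last point to the given one. -/
def mvPerm (j : Fin 8) : Perm (Fin 8) :=
  if j = 7 then 1 else swap j 7 * (if j.1 < 2 then swap 2 3 else swap 0 1)

theorem mvPerm_even : ∀ j, sign (mvPerm j) = 1 := by decide +kernel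

/-- The same as an element. -/
def mv8 (j : Fin 8) : A8 := ⟨mvPerm j, mem_alternatingGroup.2 (mvPerm_even j)⟩

theorem mv8_seven : ∀ j, (mv8 j).1 7 = j := by decide +kernel

theorem mv8_comm : ∀ j : Fin 8, 4 ≤ j.1 → mv8 j * w8 = w8 * mv8 j := by decide +kernel

/-- The element carrying the second kind of involution to another one fixing the last point. -/
def a8 : A8 := ⟨swap 2 4 * swap 3 5, mem_alternatingGroup.2 (by decide +kernel)⟩

/-- The three-cycles through two given points, as permutations. -/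
def tPerm (k : Fin 5) : Perm (Fin 8) := swap 0 1 * swap 1 ⟨k.1 + 2, by omega⟩

theorem tPerm_even : ∀ k, sign (tPerm k) = 1 := by decide +kernel

/-- The three-cycles through two given points. -/
def t8 (k : Fin 5) : A8 := ⟨tPerm k, mem_alternatingGroup.2 (tPerm_even k)⟩

theorem a8_facts : (a8 * w8 * a8⁻¹) * w8 = w8 * (a8 * w8 * a8⁻¹) ∧ (a8 * w8 * a8⁻¹).1 7 = 7 := by
  decide +kernel

/-- Reduction of an even permutation fixing the last point by the three-cycles. -/
theorem mem_of_fix {D : Subgroup A8} (ht : ∀ k, t8 k ∈ D) {a : A8} (ha : a.1 7 = 7) : a ∈ D := by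
  have htab : ∀ k : Fin 5, ∀ p : Fin 8, p.1 ≤ k.1 + 2 →
      ∃ t ∈ [(1 : A8), t8 k, t8 k * t8 k] ++ (List.finRange 5).map (fun q => t8 k * t8 k * t8 q),
        (t.1 p).1 = k.1 + 2 ∧ ∀ r : Fin 8, k.1 + 2 < r.1 → t.1 r = r := by
    decide +kernel
  have step : ∀ n : ℕ, n ≤ 5 → ∀ a : A8, (∀ r : Fin 8, n + 2 ≤ r.1 → a.1 r = r) → a ∈ D := by
    intro n
    induction n with
    | zero =>
      intro _ a ha
      have h01 : ∀ p : Fin 8, p.1 < 2 → (a.1 p).1 < 2 := by
        intro p hp
        by_contra hc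
        have := a.1.injective (ha (a.1 p) (by omega))
        rw [this] at hc
        omega
      have hd : a.1 = 1 ∨ a.1 = swap 0 1 := by
        rcases Nat.lt_succ_iff.1 (h01 0 (by decide)) |>.lt_or_eq with h | h
        · left
          have h0 : a.1 0 = 0 := Fin.ext (by simp at h ⊢; omega)
          have h1 : a.1 1 = 1 := by
            have := h01 1 (by decide)
            have hne : a.1 1 ≠ 0 := fun e => absurd (a.1.injective (e.trans h0.symm)) (by decide)
            exact Fin.ext (by
              have : (a.1 1).1 ≠ 0 := fun e => hne (Fin.ext e)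
              omega)
          ext r
          rcases Nat.lt_or_ge r.1 2 with hr | hr
          · rcases show r = 0 ∨ r = 1 by
              (rcases r with ⟨_ | _ | _, _⟩ <;> first | exact Or.inl rfl | exact Or.inr rfl | (simp at hr)) with rfl | rfl
            · rw [h0]; rfl
            · rw [h1]; rfl
          · rw [ha r hr]; rfl
        · right
          have h0 : a.1 0 = 1 := Fin.ext h
          have h1 : a.1 1 = 0 := by
            have := h01 1 (by decide)
            have hne : a.1 1 ≠ 1 := fun e => absurd (a.1.injective (e.trans h0.symm)) (by decide)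
            exact Fin.ext (by
              have : (a.1 1).1 ≠ 1 := fun e => hne (Fin.ext e)
              show (a.1 1).1 = 0
              omega)
          ext r
          rcases Nat.lt_or_ge r.1 2 with hr | hr
          · rcases show r = 0 ∨ r = 1 by
              (rcases r with ⟨_ | _ | _, _⟩ <;> first | exact Or.inl rfl | exact Or.inr rfl | (simp at hr)) with rfl | rfl
            · rw [h0, swap_apply_left]
            · rw [h1, swap_apply_right]
          · rw [ha r hr, swap_apply_of_ne_of_ne]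
            · rintro rfl; simp at hr
            · rintro rfl; simp at hr
      rcases hd with h | h
      · rw [show a = 1 from Subtype.ext h]; exact one_mem D
      · exact absurd (mem_alternatingGroup.1 a.2) (by rw [h]; decide +kernel)
    | succ n ih =>
      intro hn a ha
      let k : Fin 5 := ⟨n, by omega⟩
      let q : Fin 8 := ⟨n + 2, by omega⟩
      have hp : (a.1 q).1 ≤ n + 2 := by
        by_contra hc
        have := a.1.injective (ha (a.1 q) (by omega))
        rw [this] at hc
        simp [q] at hc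
      obtain ⟨t, htm, htp, htfix⟩ := htab k (a.1 q) hp
      have htD : t ∈ D := by
        simp only [List.mem_append, List.mem_cons, List.mem_map, List.not_mem_nil, or_false] at htm
        rcases htm with (rfl | rfl | rfl) | ⟨r, -, rfl⟩
        exacts [one_mem D, ht k, mul_mem (ht k) (ht k), mul_mem (mul_mem (ht k) (ht k)) (ht r)]
      have := ih (by omega) (t * a) fun r hr => by
        rcases Nat.lt_or_ge (n + 2) r.1 with h | h
        · show t.1 (a.1 r) = r
          rw [ha r (by omega), htfix r h]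
        · have : r = q := Fin.ext (by show r.1 = n + 2; omega)
          subst this
          exact Fin.ext htp
      have h := mul_mem (inv_mem htD) this
      rwa [inv_mul_cancel_left] at h
  exact step 5 le_rfl a fun r hr => by rw [show r = 7 from Fin.ext (by have := r.2; simp; omega)]; exact ha

/-- A fixed point free involution in any subgroup with the wrong label, and the generators with the
right one. -/
theorem stab_words {D : Subgroup A8} (h0 : ∀ a : A8, a * w8 = w8 * a → a.1 7 = 7 → a ∈ D) (j : Fin 8)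
    (hj : 4 ≤ j.1) (he : a8 * mv8 j ∈ D) :
    (∀ k, t8 k ∈ D) ∨ ∃ a ∈ D, IsConj z8 a := by
  have m : ∀ σ : Perm (Fin 8), ∀ h : sign σ = 1, σ * wPerm = wPerm * σ → σ 7 = 7 →
      (⟨σ, mem_alternatingGroup.2 h⟩ : A8) ∈ D := fun σ h h1 h2 => h0 _ (Subtype.ext h1) h2
  set e := a8 * mv8 j with hedef
  have hcase : j = 4 ∨ j = 5 ∨ j = 6 ∨ j = 7 := by
    rcases j with ⟨_ | _ | _ | _ | _ | _ | _ | _ | n, hn⟩ <;> first | (simp at hj; done) | omega
  rcases hcase with rfl | rfl | rfl | rfl
  · right
    let g1 : A8 := ⟨swap 2 3 * swap 4 6, mem_alternatingGroup.2 (by decide +kernel)⟩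
    refine ⟨e * g1 * e⁻¹ * w8, mul_mem (mul_mem (mul_mem he (m _ (by decide +kernel) (by decide +kernel) (by decide +kernel))) (inv_mem he))
      (h0 _ rfl (by decide +kernel)), conj_z_of_free (by rw [hedef]; decide +kernel) (by rw [hedef]; decide +kernel)⟩
  · right
    let g1 : A8 := ⟨swap 2 3 * swap 5 6, mem_alternatingGroup.2 (by decide +kernel)⟩
    refine ⟨e * g1 * e⁻¹ * w8, mul_mem (mul_mem (mul_mem he (m _ (by decide +kernel) (by decide +kernel) (by decide +kernel))) (inv_mem he))
      (h0 _ rfl (by decide +kernel)), conj_z_of_free (by rw [hedef]; decide +kernel) (by rw [hedef]; decide +kernel)⟩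
  · right
    exact ⟨e, he, conj_z_of_free (by rw [hedef]; decide +kernel) (by rw [hedef]; decide +kernel)⟩
  · left
    have hc : c8 ∈ D := h0 c8 basics.2.2.2.2.2.2.2.2 (by decide +kernel)
    let g : A8 := v8
    have hg : g ∈ D := h0 v8 basics.2.2.2.2.1 (by decide +kernel)
    have words : t8 0 = e * (g * c8) * e * c8 * e * (g * c8⁻¹) * e ∧
        t8 1 = e * (g * c8⁻¹) * e * c8 * e * (g * c8) * e ∧
        t8 2 = (g * c8) * e * c8 * e * (g * c8⁻¹) ∧ t8 3 = (g * c8⁻¹) * e * c8 * e * (g * c8) ∧
        t8 4 = g * e * c8 * e * g := by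
      rw [hedef]; decide +kernel
    obtain ⟨w0, w1, w2, w3, w4⟩ := words
    have hp := mul_mem hg hc
    have hm := mul_mem hg (inv_mem hc)
    intro k
    fin_cases k
    · exact w0 ▸ mul_mem (mul_mem (mul_mem (mul_mem (mul_mem (mul_mem he hp) he) hc) he) hm) he
    · exact w1 ▸ mul_mem (mul_mem (mul_mem (mul_mem (mul_mem (mul_mem he hm) he) hc) he) hp) he
    · exact w2 ▸ mul_mem (mul_mem (mul_mem (mul_mem hp he) hc) he) hm
    · exact w3 ▸ mul_mem (mul_mem (mul_mem (mul_mem hm he) hc) he) hp
    · exact w4 ▸ mul_mem (mul_mem (mul_mem (mul_mem hg he) hc) he) hg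

/-- A three-element of the centraliser is conjugate in it to a power of the standard one. -/
theorem three_norm {a : A8} (ha : a * w8 = w8 * a) (h3 : a * a * a = 1) (h1 : a ≠ 1) :
    ∃ j : Fin 8, 4 ≤ j.1 ∧ ((mv8 j)⁻¹ * a * mv8 j = c8 ∨ (mv8 j)⁻¹ * a * mv8 j = c8 * c8) := by
  have key := cent_cases (fun σ => σ * σ * σ = 1 → σ ≠ 1 → ∃ j : Fin 8, 4 ≤ j.1 ∧
    ((mvPerm j)⁻¹ * σ * mvPerm j = c8.1 ∨ (mvPerm j)⁻¹ * σ * mvPerm j = c8.1 * c8.1)) (by decide +kernel) ha
    (congrArg Subtype.val h3) fun e => h1 (Subtype.ext e)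
  obtain ⟨j, hj, h⟩ := key
  exact ⟨j, hj, h.imp (fun e => Subtype.ext e) fun e => Subtype.ext e⟩

theorem card_cent_fix : Nat.card {a : A8 // a * w8 = w8 * a ∧ a.1 7 = 7} = 24 := by
  rw [card_cent_subtype _ (fun σ => σ * wPerm = wPerm * σ ∧ σ 7 = 7)
    (fun a => ⟨fun h => ⟨congrArg Subtype.val h.1, h.2⟩, fun h => ⟨Subtype.ext h.1, h.2⟩⟩) fun _ h => h.1]
  decide +kernel

/-- Every point other than the last is fixed, with it, by an involution. -/
theorem exists_fix_inv : ∀ j : Fin 8, ∃ i : A8, IsConj w8 i ∧ i * i = 1 ∧ i ≠ 1 ∧ i.1 7 = 7 ∧ i.1 j = j := by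
  intro j
  have key : ∀ j : Fin 8, ∃ i ∈ [swap (0 : Fin 8) 1 * swap 2 3, swap (2 : Fin 8) 3 * swap 4 5, swap (0 : Fin 8) 1 * swap 4 5],
      i 7 = 7 ∧ i j = j ∧ sign i = 1 ∧ i * i = 1 ∧ i ≠ 1 := by decide +kernel
  obtain ⟨i, hi, h7, hj, hs, h2, h1⟩ := key j
  let i8 : A8 := ⟨i, mem_alternatingGroup.2 hs⟩
  have h2' : i8 * i8 = 1 := Subtype.ext h2
  have h1' : i8 ≠ 1 := fun e => h1 (congrArg Subtype.val e)
  refine ⟨i8, ?_, h2', h1', h7, hj⟩
  rcases involution_cases h2' h1' with h | ⟨h, -⟩
  · obtain ⟨g, hg⟩ := isConj_iff.1 h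
    exfalso
    have hh : (g.1 * zPerm * g.1⁻¹) 7 = 7 := by
      rw [show g.1 * zPerm * g.1⁻¹ = i from congrArg Subtype.val hg]; exact h7
    simp only [Perm.mul_apply] at hh
    have hz : ∀ p, zPerm p ≠ p := by decide +kernel
    exact hz (g.1⁻¹ 7) (g.1.injective (hh.trans (g.1.apply_symm_apply 7).symm))
  · exact h

theorem fix_span {a : A8} (x : Fin 3) (hb : inW0 a) : (c8 ^ x.1 * a).1 7 = 7 := by
  rcases hb with rfl | rfl | rfl | rfl <;> revert x <;> decide +kernel

theorem c8_orbit : ∀ p : Fin 8, 4 ≤ p.1 → p ≠ 7 → ∀ q : Fin 8, 4 ≤ q.1 → q ≠ 7 →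
    ∃ x : Fin 3, (c8 ^ x.1).1 p = q := by decide +kernel

theorem span_inj : Function.Injective (fun p : Fin 3 × fourW => c8 ^ p.1.1 * (p.2 : A8)) := by
  rintro ⟨x, a, ha⟩ ⟨y, b, hb⟩ h
  simp only at h
  have : x = y ∧ a = b := by
    rcases (show inW0 a from ha) with rfl | rfl | rfl | rfl <;>
      rcases (show inW0 b from hb) with rfl | rfl | rfl | rfl <;>
      revert x y <;> decide +kernel
  exact Prod.ext this.1 (Subtype.ext this.2)

theorem cent_big : ∀ {a : A8}, a * w8 = w8 * a → 4 ≤ (a.1 7).1 := fun {a} h =>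
  cent_cases (fun σ => 4 ≤ (σ 7).1) (by decide +kernel) h

end Cfsg.Lib.AltEightNine
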