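import Mathlib

/-!
# Finite facts on the centraliser of an involution with two transpositions in the alternating group of degree eight
-/

set_option autoImplicit false
set_option maxRecDepth 100000

namespace Cfsg.Lib.AltEightNine

open Equiv Equiv.Perm

/-- The alternating group of degree eight. -/
abbrev A8 := ↥(alternatingGroup (Fin 8))

/-- The involution without fixed points. -/
def zPerm : Perm (Fin 8) := swap 0 1 * swap 2 3 * swap 4 5 * swap 6 7

/-- The involution with four fixed points. -/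
def wPerm : Perm (Fin 8) := swap 0 1 * swap 2 3

/-- Its companion in the normal four-group of its centraliser. -/
def vPerm : Perm (Fin 8) := swap 0 2 * swap 1 3

/-- The involution without fixed points, as an element. -/
def z8 : A8 := ⟨zPerm, mem_alternatingGroup.2 (by decide +kernel)⟩

/-- The involution with four fixed points, as an element. -/
def w8 : A8 := ⟨wPerm, mem_alternatingGroup.2 (by decide +kernel)⟩

/-- The companion, as an element. -/
def v8 : A8 := ⟨vPerm, mem_alternatingGroup.2 (by decide +kernel)⟩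

/-- An element exchanging the companion with its translate. -/
def d8 : A8 := ⟨swap 0 1 * swap 4 5, mem_alternatingGroup.2 (by decide +kernel)⟩

/-- Fixed point free involutions spanning a four-group in the centraliser. -/
def e8 : Fin 2 → A8 := ![⟨swap 0 2 * swap 1 3 * swap 4 6 * swap 5 7, mem_alternatingGroup.2 (by decide +kernel)⟩,
  ⟨swap 0 3 * swap 1 2 * swap 4 7 * swap 5 6, mem_alternatingGroup.2 (by decide +kernel)⟩]

/-- The involutions regular on the fixed points. -/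
def f8 : Fin 3 → A8 := ![⟨swap 4 5 * swap 6 7, mem_alternatingGroup.2 (by decide +kernel)⟩,
  ⟨swap 4 6 * swap 5 7, mem_alternatingGroup.2 (by decide +kernel)⟩,
  ⟨swap 4 7 * swap 5 6, mem_alternatingGroup.2 (by decide +kernel)⟩]

/-- The three-cycle on three of the fixed points. -/
def c8 : A8 := ⟨swap 4 5 * swap 5 6, mem_alternatingGroup.2 (by decide +kernel)⟩

/-- Permutations preserving the two blocks of four points. -/
def bl : Perm (Fin 4) × Perm (Fin 4) →* Perm (Fin 8) :=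
  (finSumFinEquiv.permCongrHom).toMonoidHom.comp (Perm.sumCongrHom (Fin 4) (Fin 4))

theorem sign_bl (x : Perm (Fin 4) × Perm (Fin 4)) : sign (bl x) = sign x.1 * sign x.2 := by
  simp [bl]

theorem exists_bl {σ : Perm (Fin 8)} (h : σ * wPerm = wPerm * σ) : ∃ x, bl x = σ := by
  have hsupp : ∀ i : Fin 8, wPerm i ≠ i → wPerm (σ i) ≠ σ i := fun i hi he => hi (by
    apply σ.injective
    have := congrArg (fun τ : Perm (Fin 8) => τ i) h
    simp only [Perm.mul_apply] at this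
    rw [this, he])
  have hw : ∀ i : Fin 8, wPerm i ≠ i ↔ i.1 < 4 := by decide +kernel
  let τ : Perm (Fin 4 ⊕ Fin 4) := (finSumFinEquiv (m := 4) (n := 4)).symm.permCongr σ
  have hmaps : Set.MapsTo τ (Set.range Sum.inl) (Set.range Sum.inl) := by
    rintro _ ⟨a, rfl⟩
    have hval : ∀ b : Fin 4, ((finSumFinEquiv (Sum.inl b : Fin 4 ⊕ Fin 4) : Fin (4 + 4))).1 = b.1 := by decide +kernel
    have ha : (σ (finSumFinEquiv (Sum.inl a : Fin 4 ⊕ Fin 4))).1 < 4 :=
      (hw _).1 (hsupp _ ((hw _).2 (lt_of_eq_of_lt (hval a) a.2)))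
    refine ⟨⟨_, ha⟩, ?_⟩
    apply (finSumFinEquiv (m := 4) (n := 4)).injective
    simp only [τ, Equiv.permCongr_apply, Equiv.symm_symm, Equiv.apply_symm_apply]
    exact Fin.ext (hval _)
  obtain ⟨x, hx⟩ := Perm.mem_sumCongrHom_range_of_perm_mapsTo_inl hmaps
  refine ⟨x, ?_⟩
  have hx' : Perm.sumCongrHom (Fin 4) (Fin 4) x = τ := hx
  ext i
  simp [bl, hx', τ, Equiv.permCongr_apply]

/-- To prove a property of the centraliser it is enough to prove it for the block permutations. -/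
theorem cent_cases (P : Perm (Fin 8) → Prop)
    (h : ∀ x, sign x.1 * sign x.2 = 1 → bl x * wPerm = wPerm * bl x → P (bl x))
    {a : A8} (ha : a * w8 = w8 * a) : P a := by
  have ha' : (a : Perm (Fin 8)) * wPerm = wPerm * a := congrArg Subtype.val ha
  obtain ⟨x, hx⟩ := exists_bl ha'
  rw [← hx] at ha' ⊢
  exact h x (by rw [← sign_bl, hx]; exact mem_alternatingGroup.1 a.2) ha'

/-- Counting elements of the centraliser. -/
theorem card_cent_subtype (P : A8 → Prop) (Q : Perm (Fin 8) → Prop) [DecidablePred Q]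
    (hPQ : ∀ a : A8, P a ↔ Q a) (hQ : ∀ σ, Q σ → σ * wPerm = wPerm * σ) :
    Nat.card {a : A8 // P a} =
      (Finset.univ.filter fun x : Perm (Fin 4) × Perm (Fin 4) => Q (bl x) ∧ sign x.1 * sign x.2 = 1).card := by
  rw [← Fintype.card_subtype, ← Nat.card_eq_fintype_card]
  have hinj : Function.Injective bl :=
    ((finSumFinEquiv (m := 4) (n := 4)).permCongrHom.injective).comp Perm.sumCongrHom_injective
  refine (Nat.card_eq_of_bijective
    (fun x : {x : Perm (Fin 4) × Perm (Fin 4) // Q (bl x) ∧ sign x.1 * sign x.2 = 1} =>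
      (⟨⟨bl x.1, mem_alternatingGroup.2 ((sign_bl _).trans x.2.2)⟩, (hPQ _).2 x.2.1⟩ : {a : A8 // P a}))
    ⟨fun x y e => Subtype.ext (hinj (congrArg (fun a : {a : A8 // P a} => ((a.1 : A8) : Perm (Fin 8))) e)),
      fun a => ?_⟩).symm
  obtain ⟨x, hx⟩ := exists_bl (hQ _ ((hPQ a.1).1 a.2))
  refine ⟨⟨x, by rw [hx]; exact (hPQ a.1).1 a.2, ?_⟩, Subtype.ext (Subtype.ext hx)⟩
  rw [← sign_bl, hx]; exact mem_alternatingGroup.1 a.1.2

theorem pow_twelve {a : A8} (ha : a * w8 = w8 * a) : a ^ 12 = 1 := by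
  refine Subtype.ext ?_
  exact cent_cases (fun σ => σ ^ 12 = 1) (by decide +kernel) ha

theorem odd_test {a : A8} (ha : a * w8 = w8 * a) (h3 : a ^ 3 = 1 ∨ a ^ 3 = w8) (h1 : a ≠ 1) (hw : a ≠ w8) :
    ∃ i : Fin 3, (a * f8 i * a⁻¹ * (f8 i)⁻¹) ^ 2 = 1 ∧ a * f8 i * a⁻¹ * (f8 i)⁻¹ ≠ 1 ∧
      a * f8 i * a⁻¹ * (f8 i)⁻¹ ≠ w8 := by
  have key := cent_cases (fun σ => (σ ^ 3 = 1 ∨ σ ^ 3 = wPerm) → σ ≠ 1 → σ ≠ wPerm →
    ∃ i : Fin 3, (σ * (f8 i).1 * σ⁻¹ * (f8 i).1⁻¹) ^ 2 = 1 ∧ σ * (f8 i).1 * σ⁻¹ * (f8 i).1⁻¹ ≠ 1 ∧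
      σ * (f8 i).1 * σ⁻¹ * (f8 i).1⁻¹ ≠ wPerm) (by decide +kernel) ha
  obtain ⟨i, h2, hn1, hnw⟩ := key (h3.imp (congrArg Subtype.val) (congrArg Subtype.val))
    (fun e => h1 (Subtype.ext e)) (fun e => hw (Subtype.ext e))
  exact ⟨i, Subtype.ext h2, fun e => hn1 (congrArg Subtype.val e), fun e => hnw (congrArg Subtype.val e)⟩

theorem basics : w8 * w8 = 1 ∧ z8 * z8 = 1 ∧ v8 * v8 = 1 ∧ z8 * w8 = w8 * z8 ∧ v8 * w8 = w8 * v8 ∧
    d8 * w8 = w8 * d8 ∧ d8 * v8 * d8⁻¹ = v8 * w8 ∧ v8 * z8 = z8 * v8 ∧ c8 * w8 = w8 * c8 := by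
  decide +kernel

theorem ne_facts : w8 ≠ 1 ∧ z8 ≠ 1 ∧ v8 ≠ 1 ∧ v8 ≠ w8 ∧ e8 0 ≠ 1 ∧ e8 1 ≠ 1 ∧ e8 0 ≠ e8 1 := by
  decide +kernel

theorem e8_facts : ∀ i, e8 i * w8 = w8 * e8 i ∧ e8 i * e8 i = 1 := by decide +kernel

theorem e8_free : (∀ i p, (e8 i).1 p ≠ p) ∧ (∀ p, (e8 0 * e8 1).1 p ≠ p) ∧ (∀ p, (e8 0 * e8 1 * (e8 0 * e8 1)).1 p = p) := by
  decide +kernel

theorem e8_comm : e8 0 * e8 1 = e8 1 * e8 0 := by decide +kernel

theorem f8_facts : ∀ i, f8 i * w8 = w8 * f8 i ∧ f8 i * v8 = v8 * f8 i ∧ f8 i * z8 = z8 * f8 i ∧ f8 i * f8 i = 1 := by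
  decide +kernel

theorem f8_free : ∀ i p, (v8 * f8 i).1 p ≠ p := by decide +kernel

theorem isConj_of_perm {r a : A8} (hr : swap (0 : Fin 8) 1 * r.1 = r.1 * swap 0 1)
    (h : IsConj r.1 a.1) : IsConj r a := by
  obtain ⟨g, hg⟩ := isConj_iff.1 h
  by_cases hs : sign g = 1
  · exact isConj_iff.2 ⟨⟨g, mem_alternatingGroup.2 hs⟩, Subtype.ext hg⟩
  · refine isConj_iff.2 ⟨⟨g * swap 0 1, mem_alternatingGroup.2 ?_⟩, Subtype.ext ?_⟩
    · rw [map_mul, sign_swap (by decide), (Int.units_eq_one_or _).resolve_left hs]; rfl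
    · show g * swap 0 1 * r.1 * (g * swap 0 1)⁻¹ = a.1
      rw [← hg, mul_inv_rev, mul_assoc g (swap 0 1) r.1, hr]
      group

/-- An involution is conjugate to one of the two representatives. -/
theorem involution_cases {a : A8} (h2 : a * a = 1) (h1 : a ≠ 1) :
    IsConj z8 a ∨ IsConj w8 a ∧ ∃ p, a.1 p = p := by
  have h2' : a.1 ^ 2 = 1 := by rw [pow_two]; exact congrArg Subtype.val h2
  have hord : orderOf a.1 = 2 := orderOf_eq_prime h2' fun e => h1 (Subtype.ext e)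
  obtain ⟨n, hn⟩ := Equiv.Perm.cycleType_prime_order (σ := a.1) (by rw [hord]; exact Nat.prime_two)
  rw [hord] at hn
  have hle := Equiv.Perm.sum_cycleType_le (σ := a.1)
  rw [hn, Multiset.sum_replicate, Fintype.card_fin, smul_eq_mul] at hle
  have hs : sign a.1 = 1 := mem_alternatingGroup.1 a.2
  rw [Equiv.Perm.sign_of_cycleType, hn, Multiset.sum_replicate, Multiset.card_replicate, smul_eq_mul] at hs
  have hn3 : n = 1 ∨ n = 3 := by
    rcases show n = 0 ∨ n = 1 ∨ n = 2 ∨ n = 3 by omega with h | h | h | h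
    · subst h; norm_num at hs
    · exact .inl h
    · subst h; norm_num at hs
    · exact .inr h
  rcases hn3 with h | h <;> subst h
  · refine .inr ⟨isConj_of_perm (by decide +kernel)
      (Equiv.Perm.isConj_of_cycleType_eq ((show wPerm.cycleType = Multiset.replicate 2 2 by decide +kernel).trans hn.symm)), ?_⟩
    by_contra hno
    push Not at hno
    have hc := Equiv.Perm.sum_cycleType a.1
    rw [hn, Multiset.sum_replicate, smul_eq_mul, show a.1.support = Finset.univ from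
      Finset.eq_univ_of_forall fun p => Equiv.Perm.mem_support.2 (hno p), Finset.card_univ, Fintype.card_fin] at hc
    omega
  · exact .inl (isConj_of_perm (by decide +kernel)
      (Equiv.Perm.isConj_of_cycleType_eq ((show zPerm.cycleType = Multiset.replicate 4 2 by decide +kernel).trans hn.symm)))

theorem conj_z_of_free {a : A8} (h2 : a * a = 1) (hfree : ∀ p, a.1 p ≠ p) : IsConj z8 a := by
  rcases involution_cases h2 (fun e => hfree 0 (by rw [e]; rfl)) with h | ⟨-, p, hp⟩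
  · exact h
  · exact absurd hp (hfree p)

theorem card_cent_w : Nat.card {a : A8 // a * w8 = w8 * a} = 96 := by
  rw [card_cent_subtype _ (fun σ => σ * wPerm = wPerm * σ)
    (fun a => ⟨congrArg Subtype.val, fun h => Subtype.ext h⟩) fun _ h => h]
  decide +kernel

theorem card_cent_wv : Nat.card {a : A8 // a * w8 = w8 * a ∧ a * v8 = v8 * a} = 48 := by
  rw [card_cent_subtype _ (fun σ => σ * wPerm = wPerm * σ ∧ σ * vPerm = vPerm * σ)
    (fun a => ⟨fun h => ⟨congrArg Subtype.val h.1, congrArg Subtype.val h.2⟩,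
      fun h => ⟨Subtype.ext h.1, Subtype.ext h.2⟩⟩) fun _ h => h.1]
  decide +kernel

theorem card_cent_wz : Nat.card {a : A8 // a * w8 = w8 * a ∧ a * z8 = z8 * a} = 32 := by
  rw [card_cent_subtype _ (fun σ => σ * wPerm = wPerm * σ ∧ σ * zPerm = zPerm * σ)
    (fun a => ⟨fun h => ⟨congrArg Subtype.val h.1, congrArg Subtype.val h.2⟩,
      fun h => ⟨Subtype.ext h.1, Subtype.ext h.2⟩⟩) fun _ h => h.1]
  decide +kernel

theorem card_cent_wvz : Nat.card {a : A8 // a * w8 = w8 * a ∧ a * v8 = v8 * a ∧ a * z8 = z8 * a} = 16 := by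
  rw [card_cent_subtype _ (fun σ => σ * wPerm = wPerm * σ ∧ σ * vPerm = vPerm * σ ∧ σ * zPerm = zPerm * σ)
    (fun a => ⟨fun h => ⟨congrArg Subtype.val h.1, congrArg Subtype.val h.2.1, congrArg Subtype.val h.2.2⟩,
      fun h => ⟨Subtype.ext h.1, Subtype.ext h.2.1, Subtype.ext h.2.2⟩⟩) fun _ h => h.1]
  decide +kernel

theorem cent_wv_cases {a : A8} (h : a * w8 = w8 * a) :
    a * v8 * a⁻¹ = v8 ∨ a * v8 * a⁻¹ = v8 * w8 := by
  exact (cent_cases (fun σ => σ * vPerm * σ⁻¹ = vPerm ∨ σ * vPerm * σ⁻¹ = vPerm * wPerm) (by decide +kernel) h).imp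
    (fun e => Subtype.ext e) (fun e => Subtype.ext e)

theorem cent_wvz_span {a : A8} (h : a * w8 = w8 * a ∧ a * v8 = v8 * a ∧ a * z8 = z8 * a) :
    (a = 1 ∨ a = w8 ∨ a = v8 ∨ a = v8 * w8) ∨
      ∃ i, a = f8 i ∨ a = f8 i * w8 ∨ a = v8 * f8 i ∨ a = v8 * f8 i * w8 := by
  obtain ⟨h1, h2, h3⟩ := h
  have key := cent_cases (fun σ => σ * vPerm = vPerm * σ → σ * zPerm = zPerm * σ →
    (σ = 1 ∨ σ = wPerm ∨ σ = vPerm ∨ σ = vPerm * wPerm) ∨
      ∃ i, σ = (f8 i).1 ∨ σ = (f8 i).1 * wPerm ∨ σ = vPerm * (f8 i).1 ∨ σ = vPerm * (f8 i).1 * wPerm)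
    (by decide +kernel) h1 (congrArg Subtype.val h2) (congrArg Subtype.val h3)
  rcases key with h | ⟨i, h⟩
  · exact .inl (h.imp (fun e => Subtype.ext e) (Or.imp (fun e => Subtype.ext e) (Or.imp (fun e => Subtype.ext e) (fun e => Subtype.ext e))))
  · exact .inr ⟨i, h.imp (fun e => Subtype.ext e) (Or.imp (fun e => Subtype.ext e) (Or.imp (fun e => Subtype.ext e) (fun e => Subtype.ext e)))⟩

theorem comm_test {k : A8} (hw : k * w8 = w8 * k) (hv : k * v8 = v8 * k) (i : Fin 3)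
    (h : k * f8 i * k⁻¹ * (f8 i)⁻¹ = 1 ∨ k * f8 i * k⁻¹ * (f8 i)⁻¹ = w8 ∨
      k * f8 i * k⁻¹ * (f8 i)⁻¹ = v8 ∨ k * f8 i * k⁻¹ * (f8 i)⁻¹ = v8 * w8) : k * z8 = z8 * k := by
  refine Subtype.ext ?_
  exact cent_cases (fun σ => σ * vPerm = vPerm * σ →
    ∀ i : Fin 3, (σ * (f8 i).1 * σ⁻¹ * (f8 i).1⁻¹ = 1 ∨ σ * (f8 i).1 * σ⁻¹ * (f8 i).1⁻¹ = wPerm ∨
      σ * (f8 i).1 * σ⁻¹ * (f8 i).1⁻¹ = vPerm ∨ σ * (f8 i).1 * σ⁻¹ * (f8 i).1⁻¹ = vPerm * wPerm) →
    σ * zPerm = zPerm * σ) (by decide +kernel) hw (congrArg Subtype.val hv) i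
    (h.imp (congrArg Subtype.val) (Or.imp (congrArg Subtype.val) (Or.imp (congrArg Subtype.val) (congrArg Subtype.val))))

end Cfsg.Lib.AltEightNine
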