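import Cfsg.Agent.Lib.AltEightNine.Core.Normal
import Cfsg.Agent.S3277

/-!
# The centraliser of the four-group: order 48 or 240
-/

set_option autoImplicit false
set_option linter.unusedSectionVars false
set_option linter.style.haveILetI false

namespace Cfsg.Lib.AltEightNine

open Subgroup

universe u

/-- The elements of the four-group of the second kind. -/
def inW0 (a : A8) : Prop := a = 1 ∨ a = w8 ∨ a = v8 ∨ a = v8 * w8

theorem inW0_facts {a : A8} (h : inW0 a) :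
    a * w8 = w8 * a ∧ a * v8 = v8 * a ∧ a * z8 = z8 * a := by
  rcases h with rfl | rfl | rfl | rfl <;> decide +kernel

/-- The four-group of the second kind. -/
def fourW : Subgroup A8 where
  carrier := {a | inW0 a}
  one_mem' := Or.inl rfl
  mul_mem' := by
    rintro a b (rfl | rfl | rfl | rfl) (rfl | rfl | rfl | rfl) <;>
      (simp only [Set.mem_ofPred_eq, inW0]; decide +kernel)
  inv_mem' := by
    rintro a (rfl | rfl | rfl | rfl) <;> (simp only [Set.mem_ofPred_eq, inW0]; decide +kernel)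

theorem card_fourW : Nat.card fourW = 4 := by
  let f : Fin 4 → fourW := ![⟨1, Or.inl rfl⟩, ⟨w8, Or.inr (Or.inl rfl)⟩, ⟨v8, Or.inr (Or.inr (Or.inl rfl))⟩,
    ⟨v8 * w8, Or.inr (Or.inr (Or.inr rfl))⟩]
  have hinj : ∀ i j : Fin 4, (f i).1 = (f j).1 → i = j := by decide +kernel
  rw [← Nat.card_eq_of_bijective f ⟨fun i j h => hinj i j (congrArg Subtype.val h), ?_⟩, Nat.card_fin]
  rintro ⟨a, ha⟩
  rcases (show inW0 a from ha) with rfl | rfl | rfl | rfl
  exacts [⟨0, rfl⟩, ⟨1, rfl⟩, ⟨2, rfl⟩, ⟨3, rfl⟩]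

theorem exists_free_rep {a : A8} (h : a * w8 = w8 * a ∧ a * v8 = v8 * a ∧ a * z8 = z8 * a) (ha : ¬ inW0 a) :
    ∃ b, inW0 b ∧ IsConj z8 (b * a) := by
  rcases cent_wvz_span h with h' | ⟨i, hi⟩
  · exact absurd h' ha
  have key : ∀ i : Fin 3, (v8 * f8 i) * (v8 * f8 i) = 1 ∧ v8 * v8 = 1 ∧ w8 * w8 = 1 ∧
      v8 * (f8 i) = v8 * f8 i ∧ (v8 * w8) * (f8 i * w8) = v8 * f8 i ∧ 1 * (v8 * f8 i) = v8 * f8 i ∧
      w8 * (v8 * f8 i * w8) = v8 * f8 i := by decide +kernel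
  obtain ⟨h2, -, -, e1, e2, e3, e4⟩ := key i
  have hc := conj_z_of_free h2 (f8_free i)
  rcases hi with rfl | rfl | rfl | rfl
  · exact ⟨v8, Or.inr (Or.inr (Or.inl rfl)), by rw [e1]; exact hc⟩
  · exact ⟨v8 * w8, Or.inr (Or.inr (Or.inr rfl)), by rw [e2]; exact hc⟩
  · exact ⟨1, Or.inl rfl, by rw [e3]; exact hc⟩
  · exact ⟨w8, Or.inr (Or.inl rfl), by rw [e4]; exact hc⟩

theorem cent_of_comm {k a : A8} (hk : k * w8 = w8 * k ∧ k * v8 = v8 * k)
    (ha : a * w8 = w8 * a ∧ a * v8 = v8 * a ∧ a * z8 = z8 * a) (han : ¬ inW0 a)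
    (h : inW0 (k * a * k⁻¹ * a⁻¹)) : k * z8 = z8 * k := by
  rcases cent_wvz_span ha with h' | ⟨i, hi⟩
  · exact absurd h' han
  refine comm_test hk.1 hk.2 i ?_
  have hw' : k * w8 * k⁻¹ = w8 := by rw [hk.1, mul_inv_cancel_right]
  have hv' : k * v8 * k⁻¹ = v8 := by rw [hk.2, mul_inv_cancel_right]
  have e : k * a * k⁻¹ * a⁻¹ = k * f8 i * k⁻¹ * (f8 i)⁻¹ := by
    rcases hi with rfl | rfl | rfl | rfl
    · rfl
    · calc k * (f8 i * w8) * k⁻¹ * (f8 i * w8)⁻¹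
          = (k * f8 i * k⁻¹) * (k * w8 * k⁻¹) * w8⁻¹ * (f8 i)⁻¹ := by group
        _ = _ := by rw [hw']; group
    · have hc : v8 * (k * f8 i * k⁻¹ * (f8 i)⁻¹) = (k * f8 i * k⁻¹ * (f8 i)⁻¹) * v8 := by
        have hkc : Commute v8 k := hk.2.symm
        have hfc : Commute v8 (f8 i) := (f8_facts i).2.1.symm
        exact ((hkc.mul_right hfc).mul_right hkc.inv_right).mul_right hfc.inv_right
      calc k * (v8 * f8 i) * k⁻¹ * (v8 * f8 i)⁻¹
          = (k * v8 * k⁻¹) * (k * f8 i * k⁻¹ * (f8 i)⁻¹) * v8⁻¹ := by group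
        _ = _ := by rw [hv', hc]; group
    · have hc : v8 * (k * f8 i * k⁻¹ * (f8 i)⁻¹) = (k * f8 i * k⁻¹ * (f8 i)⁻¹) * v8 := by
        have hkc : Commute v8 k := hk.2.symm
        have hfc : Commute v8 (f8 i) := (f8_facts i).2.1.symm
        exact ((hkc.mul_right hfc).mul_right hkc.inv_right).mul_right hfc.inv_right
      calc k * (v8 * f8 i * w8) * k⁻¹ * (v8 * f8 i * w8)⁻¹
          = (k * v8 * k⁻¹) * (k * f8 i * k⁻¹) * (k * w8 * k⁻¹) * w8⁻¹ * (f8 i)⁻¹ * v8⁻¹ := by group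
        _ = v8 * (k * f8 i * k⁻¹ * (f8 i)⁻¹) * v8⁻¹ := by rw [hv', hw']; group
        _ = _ := by rw [hc]; group
  rw [← e]
  exact h

namespace Emb

variable {G : Type u} [Group G] [Finite G] (F : Emb G)

/-- The four-group inside the centraliser of both of its generators. -/
def M1 : Subgroup F.C1 := (fourW.map F.ψ).subgroupOf F.C1

theorem fourW_le : fourW.map F.ψ ≤ F.C1 := by
  rintro _ ⟨a, ha, rfl⟩
  exact F.psi_mem_C1.2 ⟨(inW0_facts ha).1, (inW0_facts ha).2.1⟩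

theorem comm_C1 {g : G} (hg : g ∈ F.C1) {a : A8} (ha : inW0 a) : g * F.ψ a = F.ψ a * g := by
  obtain ⟨hW, hV⟩ := F.mem_C1.1 hg
  rcases ha with rfl | rfl | rfl | rfl
  · simp
  · exact hW
  · exact hV
  · rw [map_mul]; exact ((show Commute g (F.ψ v8) from hV).mul_right (show Commute g (F.ψ w8) from hW))

instance normal_M1 : F.M1.Normal := ⟨fun n hn g => by
  obtain ⟨a, ha, hae⟩ := hn
  have : g * n * g⁻¹ = n := Subtype.ext (by
    show (g : G) * n * (g : G)⁻¹ = n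
    rw [show (n : G) = F.ψ a from hae.symm, F.comm_C1 g.2 ha, mul_inv_cancel_right])
  rw [this]
  exact ⟨a, ha, hae⟩⟩

theorem card_M1 : Nat.card F.M1 = 4 := by
  rw [M1, Nat.card_congr (subgroupOfEquivOfLe F.fourW_le).toEquiv, Subgroup.card_map_of_injective F.inj, card_fourW]

/-- The centraliser of the four-group modulo it. -/
abbrev Y : Type u := F.C1 ⧸ F.M1

theorem card_C1 : Nat.card F.C1 = 4 * Nat.card F.Y := by
  rw [Subgroup.card_eq_card_quotient_mul_card_subgroup F.M1, F.card_M1, mul_comm]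

theorem mk_eq_Y {x y : F.C1} (h : (QuotientGroup.mk x : F.Y) = QuotientGroup.mk y) :
    ∃ b, inW0 b ∧ (y : G) = x * F.ψ b := by
  obtain ⟨b, hb, he⟩ := QuotientGroup.eq.1 h
  refine ⟨b, hb, ?_⟩
  rw [he, Subgroup.coe_subtype, coe_mul, coe_inv, mul_inv_cancel_left]

/-- The image of an element of `A`. -/
def imgY (a : A8) (h : a * w8 = w8 * a ∧ a * v8 = v8 * a) : F.Y :=
  QuotientGroup.mk (⟨F.ψ a, F.psi_mem_C1.2 h⟩ : F.C1)

theorem imgY_eq_one {a : A8} {h : a * w8 = w8 * a ∧ a * v8 = v8 * a} : F.imgY a h = 1 ↔ inW0 a := by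
  rw [imgY, QuotientGroup.eq_one_iff]
  constructor
  · rintro ⟨b, hb, he⟩
    exact F.inj he ▸ hb
  · intro hb; exact ⟨a, hb, rfl⟩

/-- An element of `C1` centralising a nontrivial element of `A` modulo the four-group lies in `A`. -/
theorem mem_A_of_comm {a : A8} (ha : a * w8 = w8 * a ∧ a * v8 = v8 * a ∧ a * z8 = z8 * a) (han : ¬ inW0 a)
    {x : F.C1} (h : Commute (QuotientGroup.mk x : F.Y) (F.imgY a ⟨ha.1, ha.2.1⟩)) : (x : G) ∈ F.A := by
  obtain ⟨b, hb, he⟩ := F.mk_eq_Y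
    (x := ⟨F.ψ a, F.psi_mem_C1.2 ⟨ha.1, ha.2.1⟩⟩ * x) (y := x * ⟨F.ψ a, F.psi_mem_C1.2 ⟨ha.1, ha.2.1⟩⟩)
    (by simp only [QuotientGroup.mk_mul]; exact h.eq.symm)
  simp only [coe_mul] at he
  obtain ⟨c, hc, hcz⟩ := exists_free_rep ha han
  have hxc := F.comm_C1 x.2 hc
  have hxb := F.comm_C1 x.2 hb
  have hxK : (x : G) ∈ F.K := by
    refine F.ctrl hcz ⟨c * a * b, ?_⟩
    simp only [map_mul]
    calc F.ψ c * F.ψ a * F.ψ b = F.ψ c * (F.ψ a * ((x : G) * F.ψ b)) * (x : G)⁻¹ := by rw [hxb]; group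
      _ = F.ψ c * ((x : G) * F.ψ a) * (x : G)⁻¹ := by rw [he, mul_assoc (F.ψ a)]
      _ = ((x : G) * F.ψ c) * F.ψ a * (x : G)⁻¹ := by rw [hxc]; group
      _ = (x : G) * (F.ψ c * F.ψ a) * (x : G)⁻¹ := by group
  obtain ⟨k, hk⟩ := hxK
  have hk1 := F.psi_mem_C1.1 (hk ▸ x.2)
  have hkz := cent_of_comm hk1 ha han (by
    have : k * a * k⁻¹ * a⁻¹ = a * b * a⁻¹ := F.inj (by
      simp only [map_mul, map_inv, hk]
      calc (x : G) * F.ψ a * (x : G)⁻¹ * (F.ψ a)⁻¹ = F.ψ a * ((x : G) * F.ψ b) * (x : G)⁻¹ * (F.ψ a)⁻¹ := by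
            rw [he, mul_assoc (F.ψ a)]
        _ = F.ψ a * F.ψ b * (F.ψ a)⁻¹ := by rw [hxb]; group)
    rw [this]
    have hab : a * b = b * a := by
      rcases hb with rfl | rfl | rfl | rfl
      · simp
      · exact ha.1
      · exact ha.2.1
      · exact ((show Commute a v8 from ha.2.1).mul_right (show Commute a w8 from ha.1)).eq
    rw [hab, mul_inv_cancel_right]; exact hb)
  exact hk ▸ mem_map_of_mem F.ψ (mem_centralizer_three.2 ⟨hk1.1, hk1.2, hkz⟩)

/-- The image of `A`. -/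
def Abar : Subgroup F.Y := (F.A.subgroupOf F.C1).map (QuotientGroup.mk' F.M1)

theorem card_Abar : Nat.card F.Abar = 4 := by
  have hle : F.M1 ≤ F.A.subgroupOf F.C1 := by
    rintro x ⟨a, ha, he⟩
    exact mem_subgroupOf.2 ((show F.ψ a = (x : G) from he) ▸
      mem_map_of_mem F.ψ (mem_centralizer_three.2 (inW0_facts ha)))
  have h := Subgroup.card_eq_card_quotient_mul_card_subgroup (F.M1.subgroupOf (F.A.subgroupOf F.C1))
  rw [Nat.card_congr (subgroupOfEquivOfLe hle).toEquiv, F.card_M1,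
    Nat.card_congr (subgroupOfEquivOfLe F.A_le).toEquiv, F.card_A] at h
  rw [Abar]
  let φ : ↥(F.A.subgroupOf F.C1) →* F.Y := (QuotientGroup.mk' F.M1).comp (F.A.subgroupOf F.C1).subtype
  have hker : φ.ker = F.M1.subgroupOf (F.A.subgroupOf F.C1) := by
    ext x; simp [φ, MonoidHom.mem_ker, mem_subgroupOf]
  have hrange : φ.range = (F.A.subgroupOf F.C1).map (QuotientGroup.mk' F.M1) := by
    rw [MonoidHom.range_comp, Subgroup.range_subtype]
  rw [← hrange, ← Nat.card_congr (QuotientGroup.quotientKerEquivRange φ).toEquiv, hker]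
  omega

theorem mem_Abar {y : F.Y} : y ∈ F.Abar ↔
    ∃ (a : A8) (h : a * w8 = w8 * a ∧ a * v8 = v8 * a), a * z8 = z8 * a ∧ F.imgY a h = y := by
  constructor
  · rintro ⟨x, hx, rfl⟩
    obtain ⟨a, ha, hax⟩ := (hx : (x : G) ∈ F.A)
    obtain ⟨h1, h2, h3⟩ := mem_centralizer_three.1 ha
    exact ⟨a, ⟨h1, h2⟩, h3, congrArg QuotientGroup.mk (Subtype.ext hax)⟩
  · rintro ⟨a, h, h3, rfl⟩
    exact ⟨⟨F.ψ a, F.psi_mem_C1.2 h⟩, mem_map_of_mem F.ψ (mem_centralizer_three.2 ⟨h.1, h.2, h3⟩), rfl⟩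

theorem Abar_sq {y : F.Y} (hy : y ∈ F.Abar) : y * y = 1 := by
  obtain ⟨a, h, h3, rfl⟩ := F.mem_Abar.1 hy
  rw [imgY, ← QuotientGroup.mk_mul, QuotientGroup.eq_one_iff]
  refine ⟨a * a, ?_, by rw [map_mul]; rfl⟩
  have key := cent_cases (fun σ => σ * vPerm = vPerm * σ → σ * zPerm = zPerm * σ → σ * σ = 1)
    (by decide +kernel) h.1 (congrArg Subtype.val h.2) (congrArg Subtype.val h3)
  exact Or.inl (Subtype.ext key)

theorem cent_Abar {y : F.Y} (hy : y ∈ F.Abar) (h1 : y ≠ 1) : centralizer ({y} : Set F.Y) = F.Abar := by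
  obtain ⟨a, h, h3, rfl⟩ := F.mem_Abar.1 hy
  refine le_antisymm (fun x hx => ?_) fun x hx => mem_centralizer_singleton_iff.2
    (EightThree.commute_of_sq (fun _ he => F.Abar_sq he) hx hy)
  obtain ⟨x, rfl⟩ := QuotientGroup.mk_surjective x
  exact ⟨x, F.mem_A_of_comm ⟨h.1, h.2, h3⟩ (fun hn => h1 (F.imgY_eq_one.2 hn))
    (mem_centralizer_singleton_iff.1 hx), rfl⟩

/-- The centraliser of the four-group lies in the embedded group or has order 240. -/
theorem C1_cases : F.C1 ≤ F.K ∨ Nat.card F.C1 = 240 := by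
  haveI : Fact (Nat.Prime 2) := ⟨Nat.prime_two⟩
  obtain ⟨i0, hi0⟩ : ∃ i : Fin 3, i = 0 := ⟨0, rfl⟩
  have hf := f8_facts i0
  have hfn : ¬ inW0 (f8 i0) := by subst hi0; unfold inW0; decide +kernel
  set x := F.imgY (f8 i0) ⟨hf.1, hf.2.1⟩ with hx
  have hxA : x ∈ F.Abar := F.mem_Abar.2 ⟨_, _, hf.2.2.1, rfl⟩
  have hx1 : x ≠ 1 := fun e => hfn (F.imgY_eq_one.1 e)
  have hx2 : orderOf x = 2 := orderOf_eq_prime (by rw [pow_two]; exact F.Abar_sq hxA) hx1
  by_cases hn : F.Abar.Normal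
  · left
    intro g hg
    obtain ⟨a, ha, hax⟩ := F.mem_Abar.1 (hn.conj_mem x hxA (QuotientGroup.mk (⟨g, hg⟩ : F.C1)))
    obtain ⟨b, hb, he⟩ := F.mk_eq_Y
      (x := (⟨g, hg⟩ : F.C1) * ⟨F.ψ (f8 i0), F.psi_mem_C1.2 ⟨hf.1, hf.2.1⟩⟩ * (⟨g, hg⟩ : F.C1)⁻¹)
      (y := ⟨F.ψ a, F.psi_mem_C1.2 ha⟩) (by simp only [QuotientGroup.mk_mul, QuotientGroup.mk_inv]; exact hax.2.symm)
    obtain ⟨c, hc, hcz⟩ := exists_free_rep ⟨hf.1, hf.2.1, hf.2.2.1⟩ hfn
    have hgc := F.comm_C1 hg hc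
    refine F.ctrl hcz ⟨c * (a * b⁻¹), ?_⟩
    simp only [map_mul, map_inv]
    rw [show F.ψ a = g * F.ψ (f8 i0) * g⁻¹ * F.ψ b from he]
    calc F.ψ c * (g * F.ψ (f8 i0) * g⁻¹ * F.ψ b * (F.ψ b)⁻¹) = (F.ψ c * g) * F.ψ (f8 i0) * g⁻¹ := by group
      _ = (g * F.ψ c) * F.ψ (f8 i0) * g⁻¹ := by rw [hgc]
      _ = g * (F.ψ c * F.ψ (f8 i0)) * g⁻¹ := by group
  · right
    have hcA := F.card_Abar
    have hC4 : Nat.card (centralizer ({x} : Set F.Y)) = 4 := by rw [F.cent_Abar hxA hx1, hcA]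
    have h12 : 12 ∣ Nat.card F.Y := by
      have h48 : 48 ∣ Nat.card F.C1 := F.card_C1_inf ▸ card_dvd_of_le inf_le_left
      rw [F.card_C1] at h48
      exact Nat.dvd_of_mul_dvd_mul_left (by norm_num : 0 < 4) h48
    have hbig : 4 < Nat.card F.Y := by
      have := Nat.le_of_dvd Nat.card_pos h12
      omega
    have hSyl : ∀ R : Subgroup F.Y, IsPGroup 2 R → ∃ g : F.Y, ∀ r ∈ R, g * r * g⁻¹ ∈ F.Abar := by
      intro R hR
      -- a Sylow subgroup containing the four-group is the four-group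
      obtain ⟨P, hP⟩ := (IsPGroup.of_card (n := 2) (by rw [hcA]; norm_num) : IsPGroup 2 F.Abar).exists_le_sylow
      obtain ⟨z, hzA, hz2, hzc⟩ : ∃ z : F.Y, z ∈ (P : Subgroup F.Y) ∧ orderOf z = 2 ∧
          ∀ p ∈ (P : Subgroup F.Y), p * z = z * p := by
        haveI : Nontrivial ↥(P : Subgroup F.Y) := (nontrivial_iff_ne_bot _).2 fun e =>
          hx1 (mem_bot.1 (e.le (hP hxA)))
        obtain ⟨z, -, hz2, hzc⟩ := FTCons.exists_central_involution P.isPGroup'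
          (N := (⊤ : Subgroup ↥(P : Subgroup F.Y))) top_ne_bot
        exact ⟨z, (z : ↥(P : Subgroup F.Y)).2, by rw [orderOf_coe, hz2], fun p hp => (congrArg Subtype.val (hzc ⟨p, hp⟩).eq : p * (z : F.Y) = z * p)⟩
      have hz : z ∈ F.Abar := F.cent_Abar hxA hx1 ▸ mem_centralizer_singleton_iff.2 (hzc x (hP hxA)).symm
      have hPA : (P : Subgroup F.Y) = F.Abar := le_antisymm (fun p hp =>
        F.cent_Abar hz (fun e => by rw [e, orderOf_one] at hz2; norm_num at hz2) ▸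
          mem_centralizer_singleton_iff.2 (hzc p hp)) hP
      obtain ⟨g, hg⟩ := Invol.exists_conj_mem_sylow P hR
      exact ⟨g, fun r hr => hPA ▸ hg r hr⟩
    have hnc : ¬ Cfsg.HasNormalPComplement 2 F.Y := by
      rintro ⟨P, N, hN, hcomp⟩
      have hoddN : Odd (Nat.card N) := by
        rw [← Nat.not_even_iff_odd, even_iff_two_dvd, ← hcomp.index_eq_card]
        exact P.not_dvd_index
      have hb : N ≤ ⊥ := by
        refine (EightThree.le_iSup_of_four (fun _ he => F.Abar_sq he) (by rw [hcA])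
          (by rw [normalizer_eq_top_iff.2 hN]; exact le_top) hoddN).trans (iSup_le ?_)
        rintro ⟨e, heA, he1⟩ y ⟨hyN, hyc⟩
        rw [mem_bot]
        have hy : y ∈ F.Abar := F.cent_Abar heA he1 ▸ hyc
        rw [← orderOf_eq_one_iff]
        exact Nat.eq_one_of_dvd_one ((Nat.coprime_two_left.2 (hoddN.of_dvd_nat (orderOf_dvd_natCard N hyN))).symm.dvd_of_dvd_mul_right
          (by rw [one_mul]; exact orderOf_dvd_of_pow_eq_one (by rw [pow_two]; exact F.Abar_sq hy)))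
      obtain ⟨k, hk⟩ := IsPGroup.iff_card.1 P.isPGroup'
      have hcard := hcomp.card_mul_card
      rw [le_bot_iff.1 hb, card_bot, one_mul, hk] at hcard
      have h3 : (3 : ℕ) ∣ 2 ^ k := hcard ▸ (by norm_num : 3 ∣ 12).trans h12
      exact absurd (Nat.Prime.dvd_of_dvd_pow (by norm_num) h3) (by norm_num)
    have hne : ∀ E : Subgroup F.Y, E.Normal → Cfsg.IsElementaryAbelian 2 E → Nat.card ↥E ≠ 2 ∧ Nat.card ↥E ≠ 4 := by
      intro E hE hel
      have hp : ∀ j, Nat.card ↥E = 2 ^ j → E ≤ F.Abar := by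
        intro j hj
        obtain ⟨g, hg⟩ := hSyl E (IsPGroup.of_card hj)
        intro e he
        have := hg (g⁻¹ * e * g) (by simpa using hE.conj_mem e he g⁻¹)
        simpa [mul_assoc] using this
      refine ⟨fun h2 => ?_, fun h4 => ?_⟩
      · haveI : Nontrivial E := Finite.one_lt_card_iff_nontrivial.1 (by omega)
        obtain ⟨⟨e, he⟩, hne⟩ := exists_ne (1 : E)
        have he1 : e ≠ 1 := fun h => hne (Subtype.ext h)
        have hall : ∀ y : F.Y, y * e = e * y := by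
          intro y
          have hm := hE.conj_mem e he y
          have huniq : ∀ f ∈ E, f ≠ 1 → f = e := by
            intro f hf hf1
            by_contra hfe
            have hlt : ({1, e, f} : Set F.Y).ncard ≤ Nat.card E :=
              Set.ncard_le_ncard (by rintro a (rfl | rfl | rfl) <;> [exact one_mem _; exact he; exact hf]) (Set.toFinite _)
            rw [Set.ncard_eq_three.2 ⟨1, e, f, he1.symm, hf1.symm, Ne.symm hfe, rfl⟩] at hlt
            omega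
          have := huniq _ hm (fun h => he1 (conj_eq_one_iff.1 h))
          exact mul_inv_eq_iff_eq_mul.1 this
        have htop : centralizer ({e} : Set F.Y) = ⊤ := eq_top_iff.2 fun y _ => mem_centralizer_singleton_iff.2 (hall y)
        have h4' : Nat.card F.Y = 4 := by
          rw [← Subgroup.card_top, ← htop, F.cent_Abar (hp 1 (by rw [h2]; norm_num) he) he1, hcA]
        omega
      · refine hn ?_
        rwa [← Subgroup.eq_of_le_of_card_ge (hp 2 (by rw [h4]; norm_num)) (by rw [hcA, h4])]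
    obtain ⟨e⟩ := Cfsg.Agent.S3277.result x hx2 hC4 (fun c hc => by
      rw [pow_two]; exact F.Abar_sq (F.cent_Abar hxA hx1 ▸ hc)) hnc hne
    rw [F.card_C1, Nat.card_congr e.toEquiv, nat_card_alternatingGroup, Nat.card_fin]
    rfl

end Emb

end Cfsg.Lib.AltEightNine
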