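import Cfsg.Agent.Lib.AltEightNine.Core.Points

/-!
# A group with an embedded alternating group of degree eight containing an involution centraliser
is alternating of degree eight or nine
-/

set_option autoImplicit false
set_option linter.unusedSectionVars false
set_option linter.style.haveILetI false

namespace Cfsg.Lib.AltEightNine

open Subgroup

universe u

namespace Emb

variable {G : Type u} [Group G] [Finite G] (F : Emb G)

theorem orderOf_psi {a : A8} (h2 : a * a = 1) (h1 : a ≠ 1) : orderOf (F.ψ a) = 2 :=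
  orderOf_eq_prime (by rw [pow_two, ← map_mul, h2, map_one]) fun e => h1 (F.inj (e.trans (map_one _).symm))

/-- A subgroup controlling its involutions is the whole group. -/
theorem eq_top_of_ctrl {M : Subgroup G} (hK : F.K ≤ M)
    (h : ∀ t ∈ M, orderOf t = 2 → ∀ g : G, g * t * g⁻¹ ∈ M → g ∈ M) : M = ⊤ := by
  by_contra hM
  have hz := F.orderOf_psi basics.2.1 ne_facts.2.1
  have heven : Even (Nat.card M) := by
    rw [even_iff_two_dvd, ← hz]
    exact orderOf_dvd_natCard M (hK (F.mem_K _))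
  exact F.fus (Syl34.isConj_of_stronglyEmbedded ((Invol.stronglyEmbedded_iff hM heven).2 h) hz
    (F.orderOf_psi basics.1 ne_facts.1))

/-- The small case. -/
theorem equiv_of_le (hC1 : F.C1 ≤ F.K) : Nonempty (G ≃* A8) := by
  have hC : F.C ≤ F.K := fun c hc => by
    obtain ⟨c', hc', k, hk, rfl⟩ := F.exists_C1 hc
    exact mul_mem (hC1 hc') hk
  have hK : F.K = ⊤ := F.eq_top_of_ctrl le_rfl fun t ht ht2 g hg => by
    obtain ⟨a, rfl⟩ := ht
    have ha2 : a * a = 1 := F.inj (by rw [map_mul, map_one, ← pow_two, ← ht2, pow_orderOf_eq_one])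
    have ha1 : a ≠ 1 := fun e => by rw [e, map_one, orderOf_one] at ht2; norm_num at ht2
    rcases involution_cases ha2 ha1 with h | ⟨h, -⟩
    · exact F.ctrl h hg
    · obtain ⟨k, hk⟩ := isConj_iff.1 h
      rw [← hk, map_conj'] at hg
      obtain ⟨h', c, hc, hgk⟩ := F.exists_ctrl_w (g := g * F.ψ k) (by
        rwa [show g * F.ψ k * F.W * (g * F.ψ k)⁻¹ = g * (F.ψ k * F.ψ w8 * (F.ψ k)⁻¹) * g⁻¹ by group])
      have := mul_mem (mul_mem (F.mem_K h') (hC hc)) (inv_mem (F.mem_K k))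
      rwa [← hgk, mul_inv_cancel_right] at this
  exact ⟨(MulEquiv.ofBijective F.ψ ⟨F.inj, MonoidHom.range_eq_top.1 hK⟩).symm⟩

/-- The large case. -/
theorem equiv_of_card (h240 : Nat.card F.C1 = 240) : Nonempty (G ≃* ↥(alternatingGroup (Fin 9))) := by
  classical
  obtain ⟨β, hβb, hWβ, hstab, hfixW⟩ := F.exists_point h240
  set pt : Fin 8 → G ⧸ F.K := fun j => F.ψ (mv8 j) • β with hpt
  have hpt7 : pt 7 = β := by
    rw [hpt]
    show F.ψ (mv8 7) • β = β
    exact (hstab _).2 (mv8_seven 7)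
  have heq : ∀ a : A8, F.ψ a • β = pt (a.1 7) := by
    intro a
    have h := (hstab ((mv8 (a.1 7))⁻¹ * a)).2 (by
      show (mv8 (a.1 7)).1⁻¹ (a.1 7) = 7
      rw [Equiv.Perm.inv_def, Equiv.symm_apply_eq, mv8_seven])
    rw [map_mul, map_inv, mul_smul, inv_smul_eq_iff] at h
    exact h
  have hact : ∀ (a : A8) (j : Fin 8), F.ψ a • pt j = pt (a.1 j) := by
    intro a j
    show F.ψ a • F.ψ (mv8 j) • β = _
    rw [← mul_smul, ← map_mul, heq]
    show pt (a.1 ((mv8 j).1 7)) = _
    rw [mv8_seven]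
  have hptinj : Function.Injective pt := by
    intro i j h
    have h' : F.ψ ((mv8 j)⁻¹ * mv8 i) • β = β := by
      rw [map_mul, map_inv, mul_smul, show F.ψ (mv8 i) • β = F.ψ (mv8 j) • β from h, inv_smul_smul]
    have h7 := (hstab _).1 h'
    have h7' : (mv8 j).1⁻¹ ((mv8 i).1 7) = 7 := h7
    rw [Equiv.Perm.inv_def, Equiv.symm_apply_eq, mv8_seven, mv8_seven] at h7'
    exact h7'
  have hptb : ∀ j, pt j ≠ F.base := fun j e => hβb (by
    rw [← inv_smul_smul (F.ψ (mv8 j)) β, show F.ψ (mv8 j) • β = F.base from e, ← map_inv, F.psi_base])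
  set U : Set (G ⧸ F.K) := insert F.base (Set.range pt) with hUdef
  have hU9 : U.ncard = 9 := by
    rw [hUdef, Set.ncard_insert_of_notMem (by rintro ⟨j, hj⟩; exact hptb j hj),
      Set.ncard_range_of_injective hptinj, Nat.card_fin]
  have hψU : ∀ (a : A8), ∀ q ∈ U, F.ψ a • q ∈ U := by
    rintro a q (rfl | ⟨j, rfl⟩)
    · exact Or.inl (F.psi_base a)
    · exact Or.inr ⟨_, (hact a j).symm⟩
  have hfixU : ∀ a : A8, a * a = 1 → a ≠ 1 → ∀ q : G ⧸ F.K, F.ψ a • q = q → q ∈ U := by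
    intro a h2 h1 q hq
    rcases involution_cases h2 h1 with h | ⟨h, -⟩
    · exact Or.inl (F.eq_base_of_free h hq)
    · obtain ⟨k, hk⟩ := isConj_iff.1 h
      have hW : F.W • ((F.ψ k)⁻¹ • q) = (F.ψ k)⁻¹ • q := by
        rw [← hk, map_conj'] at hq
        calc F.W • ((F.ψ k)⁻¹ • q) = (F.ψ k)⁻¹ • ((F.ψ k * F.ψ w8 * (F.ψ k)⁻¹) • q) := by
              rw [smul_smul, smul_smul]; congr 1; group
          _ = (F.ψ k)⁻¹ • q := by rw [hq]
      have hmem : (F.ψ k)⁻¹ • q ∈ U := by
        rcases hfixW _ hW with e | ⟨j, e⟩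
        · exact Or.inl e
        · exact Or.inr ⟨j, e⟩
      have := hψU k _ hmem
      rwa [smul_inv_smul] at this
  obtain ⟨g, hg⟩ := QuotientGroup.mk_surjective β
  have hgb : g • F.base = β := by rw [← F.smul_base]; exact hg
  have hinvfix : ∀ i : A8, i * i = 1 → i ≠ 1 → i.1 7 = 7 → ∀ q ∈ U, F.ψ i • q = q → g⁻¹ • q ∈ U := by
    intro i h2 h1 h7 q _ hq
    have hmem : g⁻¹ * F.ψ i * g ∈ F.K := by
      refine F.mk_eq_base.1 ?_
      rw [mul_smul, mul_smul, hgb, (hstab i).2 h7, ← hgb, inv_smul_smul]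
    obtain ⟨a, ha⟩ := hmem
    refine hfixU a (F.inj ?_) (fun e => h1 (F.inj ?_)) _ ?_
    · rw [map_mul, ha, map_one, show g⁻¹ * F.ψ i * g * (g⁻¹ * F.ψ i * g) = g⁻¹ * (F.ψ i * F.ψ i) * g by group,
        ← map_mul, h2, map_one, mul_one, inv_mul_cancel]
    · rw [e, map_one] at ha
      rw [map_one, show F.ψ i = g * (g⁻¹ * F.ψ i * g) * g⁻¹ by group, ← ha, mul_one, mul_inv_cancel]
    · rw [ha, mul_smul, mul_smul, smul_inv_smul, hq]
  have hginv : ∀ q ∈ U, g⁻¹ • q ∈ U := by
    rintro q (rfl | ⟨j, rfl⟩)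
    · obtain ⟨i, -, h2, h1, h7, -⟩ := exists_fix_inv 0
      exact hinvfix i h2 h1 h7 _ (Or.inl rfl) (F.psi_base i)
    · obtain ⟨i, -, h2, h1, h7, hj⟩ := exists_fix_inv j
      exact hinvfix i h2 h1 h7 _ (Or.inr ⟨j, rfl⟩) (by rw [hact, hj])
  -- the stabiliser of the nine cosets
  let M : Subgroup G :=
    { carrier := {x | ∀ q ∈ U, x • q ∈ U}
      one_mem' := fun q hq => by rwa [one_smul]
      mul_mem' := fun {a b} ha hb q hq => by rw [mul_smul]; exact ha _ (hb q hq)
      inv_mem' := fun {a} ha q hq => by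
        have hinj : Set.InjOn (fun q => a • q) U := fun x _ y _ h => MulAction.injective a h
        obtain ⟨r, hr, hrq⟩ : q ∈ (fun q => a • q) '' U := by
          rw [Set.eq_of_subset_of_ncard_le (s := (fun q => a • q) '' U) (t := U)
            (by rintro _ ⟨y, hy, rfl⟩; exact ha y hy) (by rw [hinj.ncard_image]) (Set.toFinite _)]
          exact hq
        rw [← hrq, inv_smul_smul]
        exact hr }
  have hKM : F.K ≤ M := by rintro _ ⟨a, rfl⟩; exact hψU a
  have hgM : g ∈ M := inv_inv g ▸ inv_mem (show g⁻¹ ∈ M from hginv)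
  have htrans : ∀ q ∈ U, ∃ m ∈ M, m • F.base = q := by
    rintro q (rfl | ⟨j, rfl⟩)
    · exact ⟨1, one_mem _, one_smul _ _⟩
    · exact ⟨F.ψ (mv8 j) * g, mul_mem (hKM (F.mem_K _)) hgM, by rw [mul_smul, hgb]⟩
  have hmemM : ∀ x : G, x • F.base ∈ U → x ∈ M := by
    intro x hx
    obtain ⟨m, hm, he⟩ := htrans _ hx
    have hk : m⁻¹ * x ∈ F.K := F.mk_eq_base.1 (by rw [mul_smul, ← he, inv_smul_smul])
    have := mul_mem hm (hKM hk)
    rwa [mul_inv_cancel_left] at this
  have hCM : F.C ≤ M := by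
    intro c hc
    refine hmemM c ?_
    have hWc : F.W • (c • F.base) = c • F.base := by
      rw [← mul_smul, ← F.mem_C.1 hc, mul_smul, F.psi_base]
    rcases hfixW _ hWc with e | ⟨j, e⟩
    · exact Or.inl e
    · exact Or.inr ⟨j, e⟩
  have hinvK : ∀ t ∈ M, orderOf t = 2 → ∃ m ∈ M, ∃ a : A8, F.ψ a = m * t * m⁻¹ := by
    intro t ht ht2
    letI : MulAction (zpowers t) U :=
      { smul := fun x q => ⟨(x : G) • q.1, (zpowers_le.2 ht x.2 : (x : G) ∈ M) q.1 q.2⟩
        one_smul := fun q => Subtype.ext (one_smul G q.1)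
        mul_smul := fun x y q => Subtype.ext (mul_smul (x : G) (y : G) q.1) }
    haveI : Fact (Nat.Prime 2) := ⟨Nat.prime_two⟩
    have hp : IsPGroup 2 (zpowers t) := IsPGroup.of_card (n := 1) (by rw [Nat.card_zpowers, ht2, pow_one])
    have hne : (MulAction.fixedPoints (zpowers t) U).Nonempty :=
      hp.nonempty_fixed_point_of_prime_not_dvd_card U (by rw [Nat.card_coe_set_eq, hU9]; norm_num)
    obtain ⟨⟨q, hq⟩, hqf⟩ := hne
    have htq : t • q = q := congrArg Subtype.val (hqf ⟨t, mem_zpowers t⟩)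
    obtain ⟨m, hm, hmq⟩ := htrans q hq
    have hk : m⁻¹ * t * m ∈ F.K := F.mk_eq_base.1 (by rw [mul_smul, mul_smul, hmq, htq, ← hmq, inv_smul_smul])
    obtain ⟨a, ha⟩ := hk
    exact ⟨m⁻¹, inv_mem hm, a, by rw [ha, inv_inv]⟩
  have hMtop : M = ⊤ := F.eq_top_of_ctrl hKM fun t ht ht2 x hx => by
    obtain ⟨m, hm, a, ha⟩ := hinvK t ht ht2
    obtain ⟨m', hm', b, hb⟩ := hinvK _ hx (by rw [Invol.orderOf_conj_eq, ht2])
    have hy : m' * x * m⁻¹ ∈ M := by
      have hab : m' * x * m⁻¹ * F.ψ a * (m' * x * m⁻¹)⁻¹ = F.ψ b := by rw [ha, hb]; group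
      have ha2 : a * a = 1 := F.inj (by
        rw [map_mul, ha, map_one, show m * t * m⁻¹ * (m * t * m⁻¹) = m * (t * t) * m⁻¹ by group,
          ← pow_two, ← ht2, pow_orderOf_eq_one, mul_one, mul_inv_cancel])
      have ha1 : a ≠ 1 := by
        intro e
        rw [e, map_one, eq_comm, conj_eq_one_iff] at ha
        rw [ha, orderOf_one] at ht2; norm_num at ht2
      rcases involution_cases ha2 ha1 with h | ⟨h, -⟩
      · exact hKM (F.ctrl h (hab ▸ F.mem_K b))
      · obtain ⟨k, hk⟩ := isConj_iff.1 h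
        obtain ⟨h', c, hc, hgk⟩ := F.exists_ctrl_w (g := m' * x * m⁻¹ * F.ψ k) (by
          rw [show m' * x * m⁻¹ * F.ψ k * F.W * (m' * x * m⁻¹ * F.ψ k)⁻¹ =
            m' * x * m⁻¹ * (F.ψ k * F.ψ w8 * (F.ψ k)⁻¹) * (m' * x * m⁻¹)⁻¹ by group, ← map_conj', hk, hab]
          exact F.mem_K b)
        have := mul_mem (mul_mem (hKM (F.mem_K h')) (hCM hc)) (inv_mem (hKM (F.mem_K k)))
        rwa [← hgk, mul_inv_cancel_right] at this
    have := mul_mem (mul_mem (inv_mem hm') hy) hm
    rwa [show m'⁻¹ * (m' * x * m⁻¹) * m = x by group] at this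
  -- the action on nine points
  have hall : ∀ q : G ⧸ F.K, q ∈ U := by
    intro q
    obtain ⟨x, rfl⟩ := QuotientGroup.mk_surjective q
    rw [F.smul_base]
    exact (show x ∈ M by rw [hMtop]; exact mem_top x) _ (Or.inl rfl)
  have hcardΩ : Nat.card (G ⧸ F.K) = 9 := by
    rw [← Set.ncard_univ, ← Set.eq_univ_of_forall hall, hU9]
  obtain ⟨eΩ⟩ : Nonempty (G ⧸ F.K ≃ Fin 9) := ⟨(Finite.equivFinOfCardEq hcardΩ)⟩
  let φ : G →* Equiv.Perm (Fin 9) := eΩ.permCongrHom.toMonoidHom.comp (MulAction.toPermHom G (G ⧸ F.K))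
  have hinj : Function.Injective φ := by
    rw [injective_iff_map_eq_one]
    intro x hx
    have hfix : ∀ q : G ⧸ F.K, x • q = q := by
      intro q
      have := congrArg (fun σ : Equiv.Perm (Fin 9) => σ (eΩ q)) hx
      simp only [φ, MonoidHom.comp_apply, MulEquiv.coe_toMonoidHom, Equiv.Perm.one_apply] at this
      simpa [Equiv.permCongrHom, Equiv.permCongr_apply] using this
    obtain ⟨a, ha⟩ := F.mk_eq_base.1 (hfix F.base)
    have h1 : a = 1 := by
      refine Subtype.ext (Equiv.ext fun j => ?_)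
      have := hfix (pt j)
      rw [← ha, hact] at this
      exact hptinj this
    rw [← ha, h1, map_one]
  have hcardG : Nat.card G = 181440 := by
    rw [Subgroup.card_eq_card_quotient_mul_card_subgroup F.K, hcardΩ,
      show Nat.card F.K = Nat.card A8 from (Nat.card_congr (MonoidHom.ofInjective F.inj).toEquiv).symm,
      nat_card_alternatingGroup, Nat.card_fin]
    rfl
  have hidx : φ.range.index = 2 := by
    have h := Subgroup.card_mul_index φ.range
    rw [← Nat.card_congr (MonoidHom.ofInjective hinj).toEquiv, hcardG, Nat.card_perm, Nat.card_fin] at h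
    rw [show Nat.factorial 9 = 181440 * 2 from rfl] at h
    exact Nat.eq_of_mul_eq_mul_left (by norm_num) h
  refine ⟨(MonoidHom.ofInjective hinj).trans (MulEquiv.subgroupCongr ?_)⟩
  exact Equiv.Perm.eq_alternatingGroup_of_index_eq_two hidx

include F in
/-- A group with an embedded alternating group of degree eight containing the centraliser of a fixed
point free involution not conjugate to the other kind is alternating of degree eight or nine. -/
theorem classify : Nonempty (G ≃* ↥(alternatingGroup (Fin 8))) ∨ Nonempty (G ≃* ↥(alternatingGroup (Fin 9))) :=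
  (F.C1_cases).imp F.equiv_of_le F.equiv_of_card

end Emb

end Cfsg.Lib.AltEightNine
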