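import Cfsg.Agent.Lib.AltEightNine.Core.Base
import Cfsg.Agent.Lib.EightThree.Core
import Cfsg.Agent.Lib.ZStar.Main
import Cfsg.Agent.Lib.Invol.Isolated

/-!
# The four-group of the second kind is normal in the centraliser
-/

set_option autoImplicit false
set_option linter.unusedSectionVars false
set_option linter.style.haveILetI false

namespace Cfsg.Lib.AltEightNine

open Subgroup

universe u

/-- The four-group without fixed points. -/
def fourFree : Subgroup A8 where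
  carrier := {a | a = 1 ∨ a = e8 0 ∨ a = e8 1 ∨ a = e8 0 * e8 1}
  one_mem' := Or.inl rfl
  mul_mem' := by
    rintro a b (rfl | rfl | rfl | rfl) (rfl | rfl | rfl | rfl) <;>
      (simp only [Set.mem_ofPred_eq]; decide +kernel)
  inv_mem' := by
    rintro a (rfl | rfl | rfl | rfl) <;>
      (simp only [Set.mem_ofPred_eq]; decide +kernel)

theorem fourFree_facts {a : A8} (ha : a ∈ fourFree) : a * w8 = w8 * a ∧ a * a = 1 ∧ (a = 1 ∨ IsConj z8 a) := by
  rcases ha with rfl | rfl | rfl | rfl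
  · simp
  · exact ⟨(e8_facts 0).1, (e8_facts 0).2, Or.inr (conj_z_of_free (e8_facts 0).2 (e8_free.1 0))⟩
  · exact ⟨(e8_facts 1).1, (e8_facts 1).2, Or.inr (conj_z_of_free (e8_facts 1).2 (e8_free.1 1))⟩
  · have h2 : e8 0 * e8 1 * (e8 0 * e8 1) = 1 := by decide +kernel
    exact ⟨by rw [mul_assoc, (e8_facts 1).1, ← mul_assoc, (e8_facts 0).1, mul_assoc], h2,
      Or.inr (conj_z_of_free h2 e8_free.2.1)⟩

theorem four_eq (a : A8) (h : a = 1 ∨ a = w8) (ha : a ∈ fourFree) : a = 1 := by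
  rcases h with h | h
  · exact h
  · subst h
    exact absurd ha (by
      show ¬(w8 = 1 ∨ w8 = e8 0 ∨ w8 = e8 1 ∨ w8 = e8 0 * e8 1)
      decide +kernel)

namespace Emb

variable {G : Type u} [Group G] [Finite G] (F : Emb G)

theorem W_sq : F.W * F.W = 1 := by rw [← map_mul, basics.1, map_one]

theorem W_ne : F.W ≠ 1 := fun h => ne_facts.1 (F.inj (h.trans (map_one _).symm))

/-- The involution as an element of its centraliser. -/
abbrev Wc : F.C := ⟨F.W, F.mem_C.2 rfl⟩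

/-- The group it generates. -/
abbrev N : Subgroup F.C := zpowers F.Wc

theorem mem_N {x : F.C} (h : x ∈ F.N) : (x : G) = 1 ∨ (x : G) = F.W := by
  have h2 : F.Wc * F.Wc = 1 := Subtype.ext F.W_sq
  obtain ⟨k, rfl⟩ := mem_zpowers_iff.1 h
  rcases Int.even_or_odd k with ⟨m, rfl⟩ | ⟨m, rfl⟩
  · left; rw [zpow_add, ← mul_zpow_self_aux F.Wc m h2, OneMemClass.coe_one]
  · right; rw [zpow_add, zpow_mul, zpow_one, show F.Wc ^ (2 : ℤ) = 1 by rw [zpow_two, h2], one_zpow, one_mul]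
where
  mul_zpow_self_aux {H : Type u} [Group H] (x : H) (m : ℤ) (h : x * x = 1) : 1 = x ^ m * x ^ m := by
    rw [← zpow_add, ← two_mul, zpow_mul, zpow_two, h, one_zpow]

instance normal_N : F.N.Normal := ⟨fun n hn g => by
  have : g * n * g⁻¹ = n := Subtype.ext (by
    rcases F.mem_N hn with h | h
    · simp [h]
    · show (g : G) * n * (g : G)⁻¹ = n
      rw [h, F.mem_C.1 g.2, mul_inv_cancel_right])
  rwa [this]⟩

/-- The centraliser modulo the involution. -/
abbrev Qc : Type u := F.C ⧸ F.N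

/-- An element of the alternating group in the centraliser, modulo the involution. -/
def img (a : A8) (h : a * w8 = w8 * a) : F.Qc := QuotientGroup.mk (⟨F.ψ a, F.psi_mem_C.2 h⟩ : F.C)

theorem mk_eq {x y : F.C} (h : (QuotientGroup.mk x : F.Qc) = QuotientGroup.mk y) :
    (y : G) = x ∨ (y : G) = x * F.W := by
  rcases F.mem_N (QuotientGroup.eq.1 h) with e | e
  · left; rw [coe_mul, coe_inv, inv_mul_eq_one] at e; exact e.symm
  · right; rw [coe_mul, coe_inv, inv_mul_eq_iff_eq_mul] at e; exact e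

/-- The centraliser of the second kind of involution has no odd core modulo it. -/
theorem oddCore_bot : Cfsg.oddCore F.Qc = ⊥ := by
  haveI : Fact (Nat.Prime 2) := ⟨Nat.prime_two⟩
  set R := Cfsg.oddCore F.Qc with hRdef
  have hodd : Odd (Nat.card R) := Lib.ZStar.odd_card_oddCore
  let ι : fourFree →* F.Qc := (QuotientGroup.mk' F.N).comp
    ((F.ψ.comp fourFree.subtype).codRestrict F.C fun a => F.psi_mem_C.2 (fourFree_facts a.2).1)
  have hι : Function.Injective ι := by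
    rw [injective_iff_map_eq_one]
    intro a ha
    refine Subtype.ext (four_eq a ?_ a.2)
    rcases F.mk_eq (x := (1 : F.C)) (ha.symm.trans rfl) with e | e
    · left; exact F.inj (e.trans (map_one _).symm)
    · right; refine F.inj ?_; rwa [OneMemClass.coe_one, one_mul] at e
  have hsq : ∀ e ∈ ι.range, e * e = 1 := by
    rintro _ ⟨a, rfl⟩
    rw [← map_mul, show a * a = 1 from Subtype.ext (fourFree_facts a.2).2.1, map_one]
  have h4 : 4 ≤ Nat.card ι.range := by
    rw [← Nat.card_congr (MonoidHom.ofInjective hι).toEquiv]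
    let f : Fin 4 → fourFree := ![⟨1, Or.inl rfl⟩, ⟨e8 0, Or.inr (Or.inl rfl)⟩,
      ⟨e8 1, Or.inr (Or.inr (Or.inl rfl))⟩, ⟨e8 0 * e8 1, Or.inr (Or.inr (Or.inr rfl))⟩]
    have hf : Function.Injective f := by
      have : ∀ i j : Fin 4, (f i).1 = (f j).1 → i = j := by decide +kernel
      exact fun i j h => this i j (congrArg Subtype.val h)
    simpa using Nat.card_le_card_of_injective f hf
  have hgen := EightThree.le_iSup_of_four hsq h4
    (by rw [normalizer_eq_top_iff.2 (inferInstance : R.Normal)]; exact le_top) hodd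
  refine le_bot_iff.1 (hgen.trans (iSup_le ?_))
  rintro ⟨_, ⟨a, rfl⟩, hne⟩ x ⟨hxR, hxc⟩
  rw [mem_bot]
  have ha : IsConj z8 (a : A8) := (fourFree_facts a.2).2.2.resolve_left fun e => hne (by
    rw [show a = 1 from Subtype.ext e, map_one])
  obtain ⟨y, rfl⟩ := QuotientGroup.mk_surjective x
  -- a square root of odd order commutes
  obtain ⟨m, hm⟩ : Odd (orderOf (QuotientGroup.mk y : F.Qc)) :=
    hodd.of_dvd_nat (orderOf_dvd_natCard _ hxR)
  have hysq : (QuotientGroup.mk y : F.Qc) = QuotientGroup.mk ((y * y) ^ (m + 1)) := by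
    rw [← pow_two, ← pow_mul, QuotientGroup.mk_pow, show 2 * (m + 1) = 2 * m + 1 + 1 by ring, pow_succ _ (2 * m + 1),
      ← hm, pow_orderOf_eq_one, one_mul]
  have hyy : ((y * y : F.C) : G) ∈ centralizer ({F.ψ a} : Set G) := by
    rw [mem_centralizer_singleton_iff]
    have hc : (QuotientGroup.mk (y * ⟨F.ψ a, F.psi_mem_C.2 (fourFree_facts a.2).1⟩) : F.Qc) =
        QuotientGroup.mk (⟨F.ψ a, F.psi_mem_C.2 (fourFree_facts a.2).1⟩ * y) := by
      simp only [QuotientGroup.mk_mul]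
      exact mem_centralizer_singleton_iff.1 hxc
    have hyW : (y : G) * F.W = F.W * y := F.mem_C.1 y.2
    have hzW := F.comm_of _ _ (fourFree_facts a.2).1
    rcases F.mk_eq hc with e | e
    · simp only [coe_mul] at e ⊢
      calc (y : G) * y * F.ψ a = y * (F.ψ a * y) := by rw [mul_assoc, e]
        _ = F.ψ a * y * y := by rw [← mul_assoc, e, mul_assoc]
        _ = F.ψ a * (y * y) := mul_assoc _ _ _
    · simp only [coe_mul] at e ⊢
      have e' : F.ψ a * (y : G) = y * F.ψ a * F.W := e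
      have e'' : (y : G) * F.ψ a = F.ψ a * y * F.W := by rw [e', mul_assoc, F.W_sq, mul_one]
      calc (y : G) * y * F.ψ a = y * (F.ψ a * y * F.W) := by rw [mul_assoc, e'']
        _ = (y * F.ψ a) * y * F.W := by group
        _ = (F.ψ a * y * F.W) * y * F.W := by rw [e'']
        _ = F.ψ a * y * (F.W * y) * F.W := by group
        _ = F.ψ a * y * (y * F.W) * F.W := by rw [hyW]
        _ = F.ψ a * (y * y) * (F.W * F.W) := by group
        _ = F.ψ a * (y * y) := by rw [F.W_sq, mul_one]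
  set x' := (y * y) ^ (m + 1) with hx'
  have hx'K : (x' : G) ∈ F.K := by
    refine F.ctrl ha ?_
    have hc := mem_centralizer_singleton_iff.1 (pow_mem hyy (m + 1))
    rw [hx', SubmonoidClass.coe_pow, hc, mul_inv_cancel_right]
    exact F.mem_K _
  obtain ⟨k, hk⟩ := hx'K
  have hkw : k * w8 = w8 * k := F.psi_mem_C.1 (hk ▸ x'.2)
  have hkimg : F.img k hkw = QuotientGroup.mk y := by
    rw [hysq, img]; exact congrArg _ (Subtype.ext hk)
  rw [← hkimg] at hxR ⊢
  have h12 : F.img k hkw ^ 12 = 1 := by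
    rw [img, ← QuotientGroup.mk_pow, show (⟨F.ψ k, F.psi_mem_C.2 hkw⟩ : F.C) ^ 12 = 1 from
      Subtype.ext (by rw [SubmonoidClass.coe_pow, ← map_pow, pow_twelve hkw, map_one]; rfl)]
    rfl
  have h3 : F.img k hkw ^ 3 = 1 := by
    refine orderOf_dvd_iff_pow_eq_one.1 ?_
    have hd := orderOf_dvd_of_pow_eq_one h12
    have ho : Odd (orderOf (F.img k hkw)) := hodd.of_dvd_nat (orderOf_dvd_natCard _ hxR)
    rw [show (12 : ℕ) = 2 ^ 2 * 3 by norm_num] at hd
    exact ((Nat.coprime_two_right.2 ho).pow_right 2).dvd_of_dvd_mul_left hd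
  by_contra hne1
  obtain ⟨i, hc2, hc1, hcw⟩ := odd_test hkw (by
    have h3' : (QuotientGroup.mk (1 : F.C) : F.Qc) = QuotientGroup.mk ((⟨F.ψ k, F.psi_mem_C.2 hkw⟩ : F.C) ^ 3) := by
      rw [QuotientGroup.mk_pow]; exact h3.symm
    rcases F.mk_eq h3' with e | e
    · left; exact F.inj (by rw [map_pow, map_one]; exact e)
    · right; refine F.inj ?_; rw [map_pow]; simpa using e)
    (fun e => hne1 (by
      subst e; rw [img, show (⟨F.ψ 1, F.psi_mem_C.2 hkw⟩ : F.C) = 1 from Subtype.ext (map_one _)]; rfl))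
    (fun e => hne1 (by
      subst e; rw [img, QuotientGroup.eq_one_iff]; exact mem_zpowers _))
  have hfw := (f8_facts i).1
  have hcom : (k * f8 i * k⁻¹ * (f8 i)⁻¹) * w8 = w8 * (k * f8 i * k⁻¹ * (f8 i)⁻¹) := by
    have hk' := Commute.inv_left (show Commute k w8 from hkw)
    have hf' := Commute.inv_left (show Commute (f8 i) w8 from hfw)
    exact (((show Commute k w8 from hkw).mul_left hfw).mul_left hk').mul_left hf'
  set c := F.img _ hcom with hcdef
  have hcR : c ∈ R := by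
    have hce : c = F.img k hkw * (F.img (f8 i) hfw * (F.img k hkw)⁻¹ * (F.img (f8 i) hfw)⁻¹) := by
      simp only [hcdef, img, ← QuotientGroup.mk_mul, ← QuotientGroup.mk_inv]
      refine congrArg _ (Subtype.ext ?_)
      simp [mul_assoc]
    rw [hce]
    exact mul_mem hxR ((inferInstance : R.Normal).conj_mem _ (inv_mem hxR) _)
  have hc2' : c ^ 2 = 1 := by
    rw [hcdef, img, ← QuotientGroup.mk_pow, show (⟨F.ψ _, F.psi_mem_C.2 hcom⟩ : F.C) ^ 2 = 1 from
      Subtype.ext (by rw [SubmonoidClass.coe_pow, ← map_pow, hc2, map_one]; rfl)]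
    rfl
  have hc1' : c = 1 := by
    rw [← orderOf_eq_one_iff]
    exact Nat.eq_one_of_dvd_one ((Nat.coprime_two_left.2 (hodd.of_dvd_nat (orderOf_dvd_natCard _ hcR))).symm.dvd_of_dvd_mul_right
      (by rw [one_mul]; exact orderOf_dvd_of_pow_eq_one hc2'))
  rcases F.mk_eq (x := (1 : F.C)) (hc1'.symm.trans rfl) with e | e
  · exact hc1 (F.inj (e.trans (map_one _).symm))
  · exact hcw (F.inj (by simpa using e))

/-- The centraliser preserves the four-group. -/
theorem conj_V {c : G} (hc : c ∈ F.C) : c * F.V * c⁻¹ = F.V ∨ c * F.V * c⁻¹ = F.V * F.W := by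
  haveI : Fact (Nat.Prime 2) := ⟨Nat.prime_two⟩
  set T : Subgroup G := (centralizer ({w8, z8} : Set A8)).map F.ψ with hTdef
  have hT : ∀ a : A8, a ∈ centralizer ({w8, z8} : Set A8) ↔ a * w8 = w8 * a ∧ a * z8 = z8 * a := fun a => by
    simp only [mem_centralizer_iff, Set.mem_insert_iff, Set.mem_singleton_iff, forall_eq_or_imp, forall_eq]
    exact ⟨fun h => ⟨h.1.symm, h.2.symm⟩, fun h => ⟨h.1.symm, h.2.symm⟩⟩
  have hTC : T ≤ F.C := by rintro _ ⟨a, ha, rfl⟩; exact F.psi_mem_C.2 ((hT a).1 ha).1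
  have hTcard : Nat.card T = 2 ^ 5 := by
    rw [hTdef, Subgroup.card_map_of_injective F.inj, show (2 : ℕ) ^ 5 = 32 by norm_num, ← card_cent_wz]
    exact Nat.card_congr (Equiv.subtypeEquivRight fun a => hT a)
  have hCK : Nat.card ↥(F.C ⊓ F.K : Subgroup G) = 96 := by
    rw [← card_cent_w]
    refine (Nat.card_eq_of_bijective
      (fun a : {a : A8 // a * w8 = w8 * a} =>
        (⟨F.ψ a.1, F.psi_mem_C.2 a.2, F.mem_K _⟩ : ↥(F.C ⊓ F.K : Subgroup G)))
      ⟨fun a b e => Subtype.ext (F.inj (congrArg Subtype.val e)), ?_⟩).symm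
    rintro ⟨_, hg, a, rfl⟩
    exact ⟨⟨a, F.psi_mem_C.1 hg⟩, rfl⟩
  obtain ⟨P, hP⟩ := (IsPGroup.of_card (n := 5) (by
    rw [Nat.card_congr (subgroupOfEquivOfLe hTC).toEquiv, hTcard]) : IsPGroup 2 (T.subgroupOf F.C)).exists_le_sylow
  have heq := F.sylow_local hTC (map_le_range F.ψ _)
    (mem_map_of_mem F.ψ ((hT z8).2 ⟨basics.2.2.2.1, rfl⟩)) hTcard (by rw [hCK]; norm_num) P hP
  let S := P.mapSurjective (f := QuotientGroup.mk' F.N) (QuotientGroup.mk'_surjective _)
  set v := F.img v8 basics.2.2.2.2.1 with hv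
  have hv2 : orderOf v = 2 := by
    refine orderOf_eq_prime ?_ fun e => ?_
    · rw [hv, img, ← QuotientGroup.mk_pow, show (⟨F.ψ v8, F.psi_mem_C.2 basics.2.2.2.2.1⟩ : F.C) ^ 2 = 1 from
        Subtype.ext (by rw [SubmonoidClass.coe_pow, ← map_pow, pow_two, basics.2.2.1, map_one]; rfl)]
      rfl
    · rcases F.mk_eq (x := (1 : F.C)) (e.symm.trans rfl) with e' | e'
      · exact ne_facts.2.2.1 (F.inj (e'.trans (map_one _).symm))
      · exact ne_facts.2.2.2.1 (F.inj (by simpa using e'))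
  have hiso : ∀ g : F.Qc, g * v * g⁻¹ ∈ S → g * v * g⁻¹ = v := by
    intro g hg
    obtain ⟨y, rfl⟩ := QuotientGroup.mk_surjective g
    obtain ⟨t, ht, htv⟩ := hg
    rw [SetLike.mem_coe, heq] at ht
    set Vc : F.C := ⟨F.V, F.psi_mem_C.2 basics.2.2.2.2.1⟩
    have htv' : (QuotientGroup.mk t : F.Qc) = QuotientGroup.mk (y * Vc * y⁻¹) := htv
    obtain ⟨k, hkT, hk⟩ : ∃ k, k ∈ centralizer ({w8, z8} : Set A8) ∧ F.ψ k = (y : G) * F.V * (y : G)⁻¹ := by
      obtain ⟨k, hkT, hk⟩ := ht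
      rcases F.mk_eq htv' with e | e
      · exact ⟨k, hkT, hk.trans e.symm⟩
      · refine ⟨k * w8, mul_mem hkT ((hT w8).2 ⟨rfl, basics.2.2.2.1.symm⟩), ?_⟩
        rw [map_mul, hk]; exact e.symm
    obtain ⟨hkw, hkz⟩ := (hT k).1 hkT
    -- the fixed point free involution commutes with `k`
    have hy := F.mem_C.1 y.2
    have hs1 : (y : G)⁻¹ * F.ψ z8 * y ∈ F.C1 := by
      rw [mem_C1]
      constructor
      · have hyi : (y : G)⁻¹ * F.W = F.W * (y : G)⁻¹ := (Commute.inv_left hy).eq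
        calc (y : G)⁻¹ * F.ψ z8 * y * F.W = (y : G)⁻¹ * F.ψ z8 * (y * F.W) := by group
          _ = (y : G)⁻¹ * (F.ψ z8 * F.W) * y := by rw [hy]; group
          _ = ((y : G)⁻¹ * F.W) * F.ψ z8 * y := by rw [F.comm_of _ _ basics.2.2.2.1]; group
          _ = F.W * ((y : G)⁻¹ * F.ψ z8 * y) := by rw [hyi]; group
      · have hkz' := F.comm_of _ _ hkz
        rw [hk] at hkz'
        calc (y : G)⁻¹ * F.ψ z8 * y * F.V = (y : G)⁻¹ * (F.ψ z8 * ((y : G) * F.V * (y : G)⁻¹)) * y := by group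
          _ = (y : G)⁻¹ * ((y : G) * F.V * (y : G)⁻¹ * F.ψ z8) * y := by rw [hkz']
          _ = F.V * ((y : G)⁻¹ * F.ψ z8 * y) := by group
    obtain ⟨h, hh, hhs⟩ := F.exists_conj_A (R := zpowers ((y : G)⁻¹ * F.ψ z8 * y)) (zpowers_le.2 hs1)
      (IsPGroup.of_card (n := 1) (by
        have h2 : orderOf (F.ψ z8) = 2 := orderOf_eq_prime (by rw [pow_two, ← map_mul, basics.2.1, map_one])
          fun e => ne_facts.2.1 (F.inj (e.trans (map_one _).symm))
        rw [Nat.card_zpowers, pow_one, show (y : G)⁻¹ * F.ψ z8 * y = (y : G)⁻¹ * F.ψ z8 * ((y : G)⁻¹)⁻¹ by group,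
          Invol.orderOf_conj_eq, h2]))
    have hK : h * (y : G)⁻¹ ∈ F.K := by
      refine F.ctrl (IsConj.refl z8) ?_
      obtain ⟨a, -, ha⟩ := hhs _ (mem_zpowers _)
      refine ⟨a, ha.trans ?_⟩
      group
    obtain ⟨m, hm⟩ := hK
    have hhC := F.mem_C1.1 hh
    have hmw : m * w8 = w8 * m := F.psi_mem_C.1 (hm ▸ mul_mem hh.1 (inv_mem y.2))
    have hyV : (y : G) * F.V * (y : G)⁻¹ = F.ψ (m⁻¹ * v8 * m) := by
      have e : h * (F.V * h⁻¹) = F.V := by rw [← mul_assoc, hhC.2, mul_inv_cancel_right]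
      rw [map_mul, map_mul, map_inv, hm]
      calc (y : G) * F.V * (y : G)⁻¹ = (y : G) * (h⁻¹ * (h * (F.V * h⁻¹)) * h) * (y : G)⁻¹ := by group
        _ = _ := by rw [e]; group
    have hmi : m⁻¹ * w8 = w8 * m⁻¹ := (Commute.inv_left hmw).eq
    rcases cent_wv_cases hmi with e | e
    · rw [inv_inv] at e
      rw [e] at hyV
      exact congrArg QuotientGroup.mk (Subtype.ext hyV : y * Vc * y⁻¹ = Vc)
    · rw [inv_inv] at e
      rw [e, map_mul] at hyV
      have : (y * Vc * y⁻¹ : F.C) = Vc * F.Wc := Subtype.ext hyV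
      show (QuotientGroup.mk (y * Vc * y⁻¹) : F.Qc) = QuotientGroup.mk Vc
      rw [this, QuotientGroup.mk_mul, (QuotientGroup.eq_one_iff _).2 (mem_zpowers _), mul_one]
  have hvS : v ∈ (S : Subgroup F.Qc) := by
    refine ⟨⟨F.V, F.psi_mem_C.2 basics.2.2.2.2.1⟩, ?_, rfl⟩
    rw [SetLike.mem_coe, heq]
    exact mem_map_of_mem F.ψ ((hT v8).2 ⟨basics.2.2.2.2.1, basics.2.2.2.2.2.2.2.1⟩)
  have hcen := Lib.ZStar.mem_center_of_isolated F.oddCore_bot (Invol.isolated_of_sylow S hv2 hiso)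
  set Vc : F.C := ⟨F.V, F.psi_mem_C.2 basics.2.2.2.2.1⟩
  have h : (QuotientGroup.mk ((⟨c, hc⟩ : F.C) * Vc * (⟨c, hc⟩ : F.C)⁻¹) : F.Qc) = QuotientGroup.mk Vc := by
    rw [QuotientGroup.mk_mul, QuotientGroup.mk_mul, show (QuotientGroup.mk Vc : F.Qc) = v from rfl,
      mem_center_iff.1 hcen, QuotientGroup.mk_inv, mul_inv_cancel_right]
  exact (F.mk_eq h.symm).imp id id

end Emb

end Cfsg.Lib.AltEightNine
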