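import Cfsg.Agent.Lib.AltEightNine.Core.PointFacts

/-!
# The coset of the embedded group with stabiliser the alternating group of degree seven
-/

set_option autoImplicit false
set_option linter.unusedSectionVars false
set_option linter.style.haveILetI false

namespace Cfsg.Lib.AltEightNine

open Subgroup

universe u

/-- The centraliser of the second kind of involution in the alternating group. -/
abbrev C8 : Subgroup A8 := centralizer ({w8} : Set A8)

theorem mem_C8 {a : A8} : a ∈ C8 ↔ a * w8 = w8 * a := mem_centralizer_singleton_iff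

theorem card_C8 : Nat.card C8 = 96 := by
  rw [← card_cent_w]
  exact Nat.card_congr (Equiv.subtypeEquivRight fun a => mem_C8)

namespace Emb

variable {G : Type u} [Group G] [Finite G] (F : Emb G)

/-- The coset of the embedded group. -/
abbrev base : G ⧸ F.K := QuotientGroup.mk (1 : G)

theorem mk_eq_base {g : G} : g • F.base = F.base ↔ g ∈ F.K := by
  rw [MulAction.Quotient.smul_mk, QuotientGroup.eq, smul_eq_mul, mul_one, mul_one, inv_mem_iff]

theorem smul_base (g : G) : (QuotientGroup.mk g : G ⧸ F.K) = g • F.base := by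
  rw [MulAction.Quotient.smul_mk, smul_eq_mul, mul_one]

theorem psi_base (a : A8) : F.ψ a • F.base = F.base := F.mk_eq_base.2 (F.mem_K a)

/-- A fixed point free involution fixes only the coset of the embedded group. -/
theorem eq_base_of_free {a : A8} (ha : IsConj z8 a) {q : G ⧸ F.K} (h : F.ψ a • q = q) : q = F.base := by
  obtain ⟨g, rfl⟩ := QuotientGroup.mk_surjective q
  rw [MulAction.Quotient.smul_mk, QuotientGroup.eq, smul_eq_mul] at h
  have : g⁻¹ * F.ψ a * g⁻¹⁻¹ ∈ F.K := by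
    have := inv_mem h
    rwa [show ((F.ψ a * g)⁻¹ * g)⁻¹ = g⁻¹ * F.ψ a * g⁻¹⁻¹ by group] at this
  rw [F.smul_base, F.mk_eq_base]
  exact inv_mem_iff.1 (F.ctrl ha this)

theorem exists_C1 {c : G} (hc : c ∈ F.C) : ∃ c' ∈ F.C1, ∃ k ∈ F.K, c = c' * k := by
  rcases F.conj_V hc with h | h
  · exact ⟨c, ⟨hc, mem_centralizer_singleton_iff.2 (mul_inv_eq_iff_eq_mul.1 h)⟩, 1, one_mem _, (mul_one c).symm⟩
  · have hd : F.ψ d8 ∈ F.C := F.psi_mem_C.2 basics.2.2.2.2.2.1
    refine ⟨c * F.ψ d8, ⟨mul_mem hc hd, mem_centralizer_singleton_iff.2 ?_⟩, (F.ψ d8)⁻¹,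
      inv_mem (F.mem_K _), by group⟩
    have e : F.ψ d8 * F.V * (F.ψ d8)⁻¹ = F.V * F.W := by
      rw [← map_conj', basics.2.2.2.2.2.2.1, map_mul]
    have hcW : c * F.W * c⁻¹ = F.W := by rw [F.mem_C.1 hc, mul_inv_cancel_right]
    refine mul_inv_eq_iff_eq_mul.1 ?_
    calc c * F.ψ d8 * F.V * (c * F.ψ d8)⁻¹ = (c * (F.ψ d8 * F.V * (F.ψ d8)⁻¹) * c⁻¹) := by group
      _ = (c * F.V * c⁻¹) * (c * F.W * c⁻¹) := by rw [e]; group
      _ = F.V := by rw [h, hcW, mul_assoc, F.W_sq, mul_one]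

theorem fixW_iff {q : G ⧸ F.K} : F.W • q = q ↔ ∃ c ∈ F.C1, c • F.base = q := by
  constructor
  · intro h
    obtain ⟨g, rfl⟩ := QuotientGroup.mk_surjective q
    rw [MulAction.Quotient.smul_mk, QuotientGroup.eq, smul_eq_mul] at h
    obtain ⟨h', c, hc, hg⟩ := F.exists_ctrl_w (g := g⁻¹) (by
      have := inv_mem h
      rwa [show ((F.W * g)⁻¹ * g)⁻¹ = g⁻¹ * F.W * g⁻¹⁻¹ by group] at this)
    obtain ⟨c', hc', k, hk, he⟩ := F.exists_C1 (inv_mem hc)
    refine ⟨c', hc', ?_⟩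
    rw [F.smul_base g, show g = c' * (k * (F.ψ h')⁻¹) by rw [← mul_assoc, ← he, ← mul_inv_rev, ← hg, inv_inv],
      mul_smul, F.mk_eq_base.2 (mul_mem hk (inv_mem (F.mem_K _)))]
  · rintro ⟨c, hc, rfl⟩
    rw [← mul_smul, ← (F.mem_C1.1 hc).1, mul_smul, F.psi_base]

/-- The fixed points of the second kind of involution. -/
def fixW : Set (G ⧸ F.K) := {q | F.W • q = q}

variable (h240 : Nat.card F.C1 = 240)
include h240

theorem card_fixW : F.fixW.ncard = 5 := by
  have h := MulAction.index_stabilizer F.C1 F.base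
  have hst : Nat.card (MulAction.stabilizer F.C1 F.base) = 48 := by
    rw [← F.card_C1_inf]
    exact Nat.card_congr ⟨fun a => ⟨a.1.1, a.1.2, F.mk_eq_base.1 a.2⟩,
      fun a => ⟨⟨a.1, a.2.1⟩, F.mk_eq_base.2 a.2.2⟩, fun _ => rfl, fun _ => rfl⟩
  have hm := Subgroup.card_mul_index (MulAction.stabilizer F.C1 F.base)
  rw [h, hst, h240] at hm
  have e : F.fixW = MulAction.orbit F.C1 F.base := by
    ext q
    rw [fixW, Set.mem_ofPred_eq, F.fixW_iff]
    exact ⟨fun ⟨c, hc, e⟩ => ⟨⟨c, hc⟩, e⟩, fun ⟨c, e⟩ => ⟨c, c.2, e⟩⟩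
  rw [e]
  omega

/-- The coset with stabiliser the alternating group on seven points. -/
theorem exists_point : ∃ β : G ⧸ F.K, β ≠ F.base ∧ F.W • β = β ∧
    (∀ a : A8, F.ψ a • β = β ↔ a.1 7 = 7) ∧
    (∀ q, F.W • q = q → q = F.base ∨ ∃ j, F.ψ (mv8 j) • β = q) := by
  classical
  haveI : Fact (Nat.Prime 3) := ⟨Nat.prime_three⟩
  have h5 := F.card_fixW h240
  have hbase : F.base ∈ F.fixW := F.psi_base w8
  obtain ⟨q0, hq0, hq0b⟩ := Set.exists_ne_of_one_lt_ncard (by omega : 1 < F.fixW.ncard) F.base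
  set R : Set (G ⧸ F.K) := F.fixW \ {F.base} with hR
  have hR4 : R.ncard = 4 := by rw [hR, Set.ncard_sdiff_singleton_of_mem hbase, h5]
  have hstable : ∀ a : A8, a * w8 = w8 * a → ∀ q ∈ R, F.ψ a • q ∈ R := by
    rintro a ha q ⟨hq, hqb⟩
    refine ⟨?_, fun e => hqb ?_⟩
    · show F.W • (F.ψ a • q) = F.ψ a • q
      rw [← mul_smul, ← F.comm_of _ _ ha, mul_smul, show F.W • q = q from hq]
    · rw [Set.mem_singleton_iff] at e ⊢
      rw [← inv_smul_smul (F.ψ a) q, e, ← map_inv, F.psi_base]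
  have hVfix : ∀ b, inW0 b → ∀ q ∈ F.fixW, F.ψ b • q = q := by
    intro b hb q hq
    obtain ⟨c, hc, rfl⟩ := F.fixW_iff.1 hq
    rw [← mul_smul, ← F.comm_C1 hc hb, mul_smul, F.psi_base]
  let f : Fin 4 → A8 := ![1, f8 0, f8 1, f8 2]
  have hfw : ∀ i, f i * w8 = w8 * f i := by decide +kernel
  let φ : Fin 4 → R := fun i => ⟨F.ψ (f i) • q0, hstable _ (hfw i) q0 ⟨hq0, hq0b⟩⟩
  have hφ : Function.Bijective φ := by
    have hinj : Function.Injective φ := by
      intro i k hik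
      by_contra hne
      have hk : ∀ i k : Fin 4, i ≠ k → ∃ l : Fin 3, (f k)⁻¹ * f i = f8 l := by decide +kernel
      obtain ⟨l, hl⟩ := hk i k hne
      have h1 : F.ψ (f8 l) • q0 = q0 := by
        rw [← hl, map_mul, map_inv, mul_smul, show F.ψ (f i) • q0 = F.ψ (f k) • q0 from congrArg Subtype.val hik,
          inv_smul_smul]
      have h2 : F.ψ (v8 * f8 l) • q0 = q0 := by
        rw [map_mul, mul_smul, h1]
        exact hVfix v8 (Or.inr (Or.inr (Or.inl rfl))) q0 hq0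
      refine hq0b (F.eq_base_of_free (conj_z_of_free ?_ (f8_free l)) h2)
      exact (show ∀ l : Fin 3, v8 * f8 l * (v8 * f8 l) = 1 by decide +kernel) l
    refine (Nat.bijective_iff_injective_and_card φ).2 ⟨hinj, ?_⟩
    rw [Nat.card_fin, Nat.card_coe_set_eq, hR4]
  letI : MulAction A8 (G ⧸ F.K) := MulAction.compHom _ F.ψ
  have hstab24 : ∀ q ∈ R, Nat.card (MulAction.stabilizer C8 q) = 24 := by
    intro q hq
    have hm := Subgroup.card_mul_index (MulAction.stabilizer C8 q)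
    have e : MulAction.orbit C8 q = R := by
      ext r
      constructor
      · rintro ⟨a, rfl⟩; exact hstable a (mem_C8.1 a.2) q hq
      · intro hr
        obtain ⟨i, hi⟩ := hφ.2 ⟨r, hr⟩
        obtain ⟨k, hk⟩ := hφ.2 ⟨q, hq⟩
        refine ⟨⟨f i * (f k)⁻¹, mul_mem (mem_C8.2 (hfw i)) (inv_mem (mem_C8.2 (hfw k)))⟩, ?_⟩
        show F.ψ (f i * (f k)⁻¹) • q = r
        rw [map_mul, map_inv, mul_smul]
        have hi' : F.ψ (f i) • q0 = r := congrArg Subtype.val hi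
        have hk' : F.ψ (f k) • q0 = q := congrArg Subtype.val hk
        rw [← hk', inv_smul_smul, hi']
    rw [MulAction.index_stabilizer, e, hR4, card_C8] at hm
    omega
  obtain ⟨x, hx⟩ := exists_prime_orderOf_dvd_card' (G := MulAction.stabilizer C8 q0) 3
    (by rw [hstab24 q0 ⟨hq0, hq0b⟩]; norm_num)
  have hx3 : (x.1.1 : A8) * x.1.1 * x.1.1 = 1 := by
    have := pow_orderOf_eq_one x
    rw [hx, pow_succ, pow_two] at this
    exact congrArg (fun y : MulAction.stabilizer C8 q0 => (y.1.1 : A8)) this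
  have hx1 : (x.1.1 : A8) ≠ 1 := fun e => by
    rw [show x = 1 from Subtype.ext (Subtype.ext e), orderOf_one] at hx; norm_num at hx
  obtain ⟨l, hl, hlc⟩ := three_norm (mem_C8.1 x.1.2) hx3 hx1
  have hlw := mv8_comm l hl
  set β : G ⧸ F.K := F.ψ (mv8 l)⁻¹ • q0 with hβdef
  have hβR : β ∈ R := hstable _ (Commute.inv_left hlw).eq q0 ⟨hq0, hq0b⟩
  have hcβ : F.ψ c8 • β = β := by
    have hx' : F.ψ ((mv8 l)⁻¹ * x.1.1 * mv8 l) • β = β := by
      rw [hβdef, ← mul_smul, ← map_mul, mul_inv_cancel_right, map_mul, mul_smul]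
      exact congrArg _ x.2
    rcases hlc with e | e
    · rw [← e]; exact hx'
    · rw [show c8 = (c8 * c8) * (c8 * c8) by decide +kernel, map_mul, mul_smul, ← e, hx', hx']
  clear_value β
  set X := MulAction.stabilizer C8 β with hXdef
  have hX24 : Nat.card X = 24 := hstab24 β hβR
  have hXfix : ∀ a : X, (a.1.1).1 7 = 7 := by
    intro a
    by_contra hne
    letI : MulAction X (Fin 8) := MulAction.compHom _
      ((alternatingGroup (Fin 8)).subtype.comp (C8.subtype.comp X.subtype))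
    let S7 := MulAction.stabilizer X (7 : Fin 8)
    have hmem : ∀ p : Fin 3 × fourW, ∃ h : c8 ^ p.1.1 * (p.2 : A8) ∈ C8,
        (⟨_, h⟩ : C8) ∈ X := by
      intro p
      refine ⟨mul_mem (pow_mem (mem_C8.2 basics.2.2.2.2.2.2.2.2) _) (mem_C8.2 (inW0_facts p.2.2).1), ?_⟩
      show F.ψ (c8 ^ p.1.1 * (p.2 : A8)) • β = β
      rw [map_mul, mul_smul, hVfix _ p.2.2 β hβR.1, map_pow]
      induction p.1.1 with
      | zero => simp
      | succ n ih => rw [pow_succ, mul_smul, hcβ, ih]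
    let ι : Fin 3 × fourW → S7 := fun p =>
      ⟨⟨⟨c8 ^ p.1.1 * (p.2 : A8), (hmem p).1⟩, (hmem p).2⟩, fix_span p.1 p.2.2⟩
    have h12 : 12 ≤ Nat.card S7 := by
      have := Nat.card_le_card_of_injective ι fun p r h => span_inj (congrArg (fun y : S7 => (y.1.1.1 : A8)) h)
      rwa [Nat.card_prod, Nat.card_fin, card_fourW] at this
    have h4 : 4 ≤ (MulAction.orbit X (7 : Fin 8)).ncard := by
      have hbig := cent_big (mem_C8.1 a.1.2)
      have hsub : ({7, 4, 5, 6} : Set (Fin 8)) ⊆ MulAction.orbit X (7 : Fin 8) := by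
        intro p hp
        by_cases h7 : p = 7
        · subst h7; exact MulAction.mem_orbit_self _
        obtain ⟨e, he⟩ := c8_orbit _ hbig hne p (by rcases hp with rfl | rfl | rfl | rfl <;> simp) h7
        obtain ⟨hc, hcX⟩ := hmem (e, 1)
        refine ⟨(⟨⟨_, hc⟩, hcX⟩ : X) * a, ?_⟩
        show (c8 ^ e.1 * ((1 : fourW) : A8) * a.1.1).1 7 = p
        rw [OneMemClass.coe_one, mul_one]
        exact he
      refine le_trans ?_ (Set.ncard_le_ncard hsub (Set.toFinite _))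
      rw [Set.ncard_eq_toFinset_card']
      decide +kernel
    have hm := Subgroup.card_mul_index S7
    rw [MulAction.index_stabilizer, hX24] at hm
    have := Nat.mul_le_mul h12 h4
    omega
  have hfixX : ∀ a : A8, a * w8 = w8 * a → a.1 7 = 7 → F.ψ a • β = β := by
    have hinj : Function.Injective (fun y : X => (⟨y.1.1, mem_C8.1 y.1.2, hXfix y⟩ : {a : A8 // a * w8 = w8 * a ∧ a.1 7 = 7})) :=
      fun y z e => Subtype.ext (Subtype.ext (congrArg (fun v : {a : A8 // a * w8 = w8 * a ∧ a.1 7 = 7} => v.1) e))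
    have hbij := (Nat.bijective_iff_injective_and_card _).2 ⟨hinj, by rw [hX24, card_cent_fix]⟩
    intro a ha h7
    obtain ⟨y, hy⟩ := hbij.2 ⟨a, ha, h7⟩
    have : y.1.1 = a := congrArg Subtype.val hy
    rw [← this]
    exact y.2
  have hR' : ∀ q ∈ R, ∃ j : Fin 8, 4 ≤ j.1 ∧ F.ψ (mv8 j) • β = q := by
    intro q hq
    let φ' : {j : Fin 8 // 4 ≤ j.1} → R := fun j => ⟨F.ψ (mv8 j.1) • β, hstable _ (mv8_comm _ j.2) β hβR⟩
    have hinj : Function.Injective φ' := by
      intro i k e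
      have e' : F.ψ (mv8 i.1) • β = F.ψ (mv8 k.1) • β := congrArg Subtype.val e
      have hk : F.ψ ((mv8 k.1)⁻¹ * mv8 i.1) • β = β := by rw [map_mul, map_inv, mul_smul, e', inv_smul_smul]
      have h7 := hXfix ⟨⟨_, mul_mem (inv_mem (mem_C8.2 (mv8_comm _ k.2))) (mem_C8.2 (mv8_comm _ i.2))⟩, hk⟩
      apply Subtype.ext
      have h7' : (mv8 k.1).1⁻¹ ((mv8 i.1).1 7) = 7 := h7
      rw [mv8_seven] at h7'
      have := congrArg (mv8 k.1).1 h7'
      rw [Equiv.Perm.inv_def, Equiv.apply_symm_apply, mv8_seven] at this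
      exact this
    have hbij := (Nat.bijective_iff_injective_and_card φ').2 ⟨hinj, by
      rw [Nat.card_coe_set_eq, hR4, Nat.card_eq_fintype_card]; decide +kernel⟩
    obtain ⟨j, hj⟩ := hbij.2 ⟨q, hq⟩
    exact ⟨j.1, j.2, congrArg Subtype.val hj⟩
  let D : Subgroup A8 := MulAction.stabilizer A8 β
  have hβb : β ≠ F.base := hβR.2
  -- a second involution of the same kind fixing the point
  obtain ⟨ha8, ha87⟩ := a8_facts
  have hq1 : (F.ψ a8)⁻¹ • β ∈ R := by
    refine ⟨?_, fun e => hβb ?_⟩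
    · show F.W • ((F.ψ a8)⁻¹ • β) = (F.ψ a8)⁻¹ • β
      have h := hfixX _ ha8 ha87
      rw [map_conj'] at h
      calc F.W • ((F.ψ a8)⁻¹ • β) = (F.ψ a8)⁻¹ • ((F.ψ a8 * F.W * (F.ψ a8)⁻¹) • β) := by
            rw [smul_smul, smul_smul]; congr 1; group
        _ = (F.ψ a8)⁻¹ • β := by rw [h]
    · rw [Set.mem_singleton_iff] at e
      rw [← smul_inv_smul (F.ψ a8) β, e, F.psi_base]
  obtain ⟨j, hj, hje⟩ := hR' _ hq1
  have he : a8 * mv8 j ∈ D := by
    show F.ψ (a8 * mv8 j) • β = β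
    rw [map_mul, mul_smul, hje, smul_inv_smul]
  have hfree : ¬ ∃ a ∈ D, IsConj z8 a := fun ⟨a, ha, hz⟩ => hβb (F.eq_base_of_free hz ha)
  have hA7 : ∀ a : A8, a.1 7 = 7 → a ∈ D := fun a ha =>
    mem_of_fix ((stab_words (D := D) hfixX j hj he).resolve_right hfree) ha
  refine ⟨β, hβb, hβR.1, fun a => ⟨fun h => ?_, fun h => hA7 a h⟩, fun q hq => ?_⟩
  · by_contra hne
    refine hfree ⟨z8, ?_, IsConj.refl _⟩
    -- a point stabiliser with one further element is everything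
    have hswap : ∀ p r : Fin 8, p ≠ 7 → r ≠ 7 → ∃ g : A8, g.1 7 = 7 ∧ g.1 p = r := by
      intro p r hp hr
      have hev : ∀ p r : Fin 8, p ≠ 7 → r ≠ 7 → ∃ u v : Fin 8, u ≠ 7 ∧ v ≠ 7 ∧ (p = r ∨
          (u ≠ v ∧ (Equiv.swap p r * Equiv.swap u v) 7 = 7 ∧ (Equiv.swap p r * Equiv.swap u v) p = r ∧
            Equiv.Perm.sign (Equiv.swap p r * Equiv.swap u v) = 1)) := by decide +kernel
      obtain ⟨u, v, -, -, h | ⟨-, h7, hpr, hs⟩⟩ := hev p r hp hr
      · exact ⟨1, rfl, h⟩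
      · exact ⟨⟨_, Equiv.Perm.mem_alternatingGroup.2 hs⟩, h7, hpr⟩
    obtain ⟨g, hg7, hgp⟩ := hswap (a.1 7) (z8.1 7) hne (by decide +kernel)
    have hga : g * a ∈ D := mul_mem (hA7 g hg7) h
    have : (g * a)⁻¹ * z8 ∈ D := hA7 _ (by
      show (g.1 * a.1)⁻¹ (z8.1 7) = 7
      rw [← hgp, Equiv.Perm.inv_def, Equiv.symm_apply_eq]; rfl)
    have h' := mul_mem hga this
    rwa [mul_inv_cancel_left] at h'
  · by_cases hb : q = F.base
    · exact Or.inl hb
    · obtain ⟨j, -, e⟩ := hR' q ⟨hq, hb⟩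
      exact Or.inr ⟨j, e⟩

end Emb

end Cfsg.Lib.AltEightNine
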